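import Mathlib

/-! A descending chain of submodules of a countably spanned module whose quotient system has only
locally liftable compatible families stabilizes. -/

set_option autoImplicit false
set_option linter.style.haveILetI false

universe u

namespace Groth.Agent.TowerStabLib

variable {k R M : Type u} [Field k] [CommRing R] [Algebra k R] [AddCommGroup M] [Module R M]
  [Module k M] [IsScalarTower k R M]

/-- Elements killed modulo `N` by an element outside the prime `y`. -/
def sat (N : Submodule R M) (y : Ideal R) [hy : y.IsPrime] : Submodule R M where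
  carrier := {e | ∃ a : R, a ∉ y ∧ a • e ∈ N}
  add_mem' := by
    rintro e e' ⟨a, ha, hae⟩ ⟨b, hb, hbe⟩
    refine ⟨a * b, fun h => (hy.mem_or_mem h).elim ha hb, ?_⟩
    rw [smul_add]
    refine N.add_mem ?_ ?_
    · rw [mul_comm, mul_smul]; exact N.smul_mem b hae
    · rw [mul_smul]; exact N.smul_mem a hbe
  zero_mem' := ⟨1, fun h => hy.ne_top (y.eq_top_iff_one.2 h), by simp⟩
  smul_mem' := by
    rintro c e ⟨a, ha, hae⟩
    exact ⟨a, ha, by rw [smul_comm]; exact N.smul_mem c hae⟩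

/-- The pair `w` lifts `s` modulo `N` on the basic open of its first entry, which contains `p`. -/
def Bad (N : Submodule R M) (p : Ideal R) (s : M) (w : R × M) : Prop :=
  w.1 ∉ p ∧ ∃ i : ℕ, w.1 ^ i • (w.1 • s - w.2) ∈ N

theorem bad_congr {N : Submodule R M} {p : Ideal R} {s s' : M} (h : s' - s ∈ N) {w : R × M}
    (hw : Bad N p s' w) : Bad N p s w := by
  obtain ⟨hp, i, hi⟩ := hw
  refine ⟨hp, i, ?_⟩
  have : w.1 ^ i • (w.1 • s - w.2) = w.1 ^ i • (w.1 • s' - w.2) - w.1 ^ i • w.1 • (s' - s) := by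
    rw [← smul_sub]; congr 1; rw [smul_sub]; abel
  rw [this]
  exact N.sub_mem hi (N.smul_mem _ (N.smul_mem _ h))

theorem bad_mono {N N' : Submodule R M} {p : Ideal R} (hN : N ≤ N') {s : M} {w : R × M}
    (hw : Bad N p s w) : Bad N' p s w :=
  ⟨hw.1, hw.2.imp fun _ h => hN h⟩

/-- The bilinear forms vanishing on the diagonal of the bad pairs. -/
def badAnn (N : Submodule R M) (p : Ideal R) (V : Submodule k (R × M)) (s : M) :
    Submodule k (V →ₗ[k] V →ₗ[k] k) where
  carrier := {B | ∀ w : V, Bad N p s w → B w w = 0}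
  add_mem' := fun {a b} ha hb w hw => by simp [ha w hw, hb w hw]
  zero_mem' := fun w _ => rfl
  smul_mem' := fun c a ha w hw => by simp [ha w hw]

theorem exists_form (N : Submodule R M) (V : Submodule k (R × M)) (y : Ideal R) [y.IsPrime] (s : M)
    (w : V) (hf : (w : R × M).1 ∉ y) (hr : (w : R × M).1 • s - (w : R × M).2 ∉ sat N y) :
    ∃ B : V →ₗ[k] V →ₗ[k] k, B w w ≠ 0 ∧ ∀ (p : Ideal R) (v : V), Bad N p s v → B v v = 0 := by
  obtain ⟨φ, hφ, hφy⟩ := Submodule.exists_dual_map_eq_bot_of_notMem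
    (p := y.restrictScalars k) (x := (w : R × M).1) hf inferInstance
  obtain ⟨ψ, hψ, hψT⟩ := Submodule.exists_dual_map_eq_bot_of_notMem
    (p := (sat N y).restrictScalars k) (x := (w : R × M).1 • s - (w : R × M).2) hr inferInstance
  let a : V →ₗ[k] k := φ ∘ₗ LinearMap.fst k R M ∘ₗ V.subtype
  let r : V →ₗ[k] M :=
    ((LinearMap.toSpanSingleton R M s).restrictScalars k ∘ₗ LinearMap.fst k R M - LinearMap.snd k R M) ∘ₗ V.subtype
  have hr' : ∀ v : V, r v = (v : R × M).1 • s - (v : R × M).2 := fun v => rfl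
  refine ⟨a.smulRight (ψ ∘ₗ r), ?_, fun p v hv => ?_⟩
  · show φ (w : R × M).1 • ψ (r w) ≠ 0
    rw [hr']
    exact smul_ne_zero hφ hψ
  · show φ (v : R × M).1 • ψ (r v) = 0
    obtain ⟨-, i, hi⟩ := hv
    by_cases h : (v : R × M).1 ∈ y
    · have : φ (v : R × M).1 = 0 := by
        have h2 : φ (v : R × M).1 ∈ (y.restrictScalars k).map φ := ⟨_, h, rfl⟩
        rwa [hφy] at h2
      rw [this, zero_smul]
    · have hmem : r v ∈ sat N y :=
        ⟨_, fun hh => h ((inferInstance : y.IsPrime).mem_of_pow_mem i hh), by rw [hr']; exact hi⟩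
      have : ψ (r v) = 0 := by
        have h2 : ψ (r v) ∈ ((sat N y).restrictScalars k).map ψ := ⟨_, hmem, rfl⟩
        rwa [hψT] at h2
      rw [this, smul_zero]

/-- One step: kill every pair in a finite-dimensional space. -/
theorem exists_extension (H : ℕ → Submodule R M) (hH : Antitone H) (p : Ideal R)
    (hp : ∀ f : R, f ∉ p → ∀ n, ∃ m, n ≤ m ∧ ∃ δ ∈ H n, ∀ i : ℕ, f ^ i • δ ∉ H m)
    (V : Submodule k (R × M)) [FiniteDimensional k V] (n : ℕ) (s : M) :
    ∃ m, n ≤ m ∧ ∃ s', s' - s ∈ H n ∧ ∀ w : V, ¬ Bad (H m) p s' w := by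
  suffices ∀ (A : Submodule k (V →ₗ[k] V →ₗ[k] k)) (n : ℕ) (s : M), badAnn (H n) p V s = A →
      ∃ m, n ≤ m ∧ ∃ s', s' - s ∈ H n ∧ ∀ w : V, ¬ Bad (H m) p s' w from this _ n s rfl
  intro A
  induction A using WellFoundedGT.induction with
  | ind A ih =>
    intro n s hA
    by_cases hb : ∀ w : V, ¬ Bad (H n) p s w
    · exact ⟨n, le_rfl, s, by simp, hb⟩
    push Not at hb
    obtain ⟨w, hw⟩ := hb
    obtain ⟨m, hnm, δ, hδ, hδm⟩ := hp _ hw.1 n
    let I : Ideal R := (H m).comap (LinearMap.toSpanSingleton R M δ)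
    obtain ⟨y, hy, hIy, hfy⟩ : ∃ y : Ideal R, y.IsPrime ∧ I ≤ y ∧ (w : R × M).1 ∉ y := by
      by_contra hcon
      push Not at hcon
      have : (w : R × M).1 ∈ I.radical := by
        rw [Ideal.radical_eq_sInf]
        exact Submodule.mem_sInf.2 fun q hq => hcon q hq.2 hq.1
      obtain ⟨i, hi⟩ := this
      exact hδm i hi
    haveI := hy
    have hδy : δ ∉ sat (H m) y := fun ⟨a, ha, hae⟩ => ha (hIy hae)
    obtain ⟨s', hs', hr⟩ : ∃ s', s' - s ∈ H n ∧ (w : R × M).1 • s' - (w : R × M).2 ∉ sat (H m) y := by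
      by_cases h : (w : R × M).1 • s - (w : R × M).2 ∈ sat (H m) y
      · refine ⟨s + δ, by simpa using hδ, fun h' => hδy ?_⟩
        have hd : (w : R × M).1 • δ ∈ sat (H m) y := by
          have := (sat (H m) y).sub_mem h' h
          rwa [smul_add, show (w : R × M).1 • s + (w : R × M).1 • δ - (w : R × M).2 -
            ((w : R × M).1 • s - (w : R × M).2) = (w : R × M).1 • δ by abel] at this
        obtain ⟨a, ha, hae⟩ := hd
        exact ⟨a * (w : R × M).1, fun hh => (hy.mem_or_mem hh).elim ha hfy, by rwa [mul_smul]⟩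
      · exact ⟨s, by simp, h⟩
    obtain ⟨B, hBw, hB⟩ := exists_form (H m) V y s' w hfy hr
    have hle : A < badAnn (H m) p V s' := by
      subst hA
      refine lt_of_le_of_ne (fun C hC v hv => hC v (bad_congr hs' (bad_mono (hH hnm) hv))) fun he => ?_
      exact hBw ((he ▸ (show B ∈ badAnn (H m) p V s' from fun v hv => hB p v hv)) w hw)
    obtain ⟨m', hm', s'', hs'', h⟩ := ih _ hle m s' rfl
    exact ⟨m', hnm.trans hm', s'', by simpa using (H n).add_mem (hH hnm hs'') hs', h⟩

/-- If every compatible family is locally liftable, the chain stabilizes. -/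
theorem exists_stable (H : ℕ → Submodule R M) (hH : Antitone H) (S : Set (R × M)) (hS : S.Countable)
    (hspan : Submodule.span k S = ⊤)
    (hlift : ∀ s : ℕ → M, (∀ n, s (n + 1) - s n ∈ H n) → ∀ p : Ideal R, p.IsPrime →
      ∃ f : R, f ∉ p ∧ ∃ g : M, ∀ n, ∃ i : ℕ, f ^ i • (f • s n - g) ∈ H n) :
    ∃ N, ∀ n, N ≤ n → H n = H N := by
  classical
  by_cases hstab : ∀ p : Ideal R, p.IsPrime → ∃ f : R, f ∉ p ∧ ∃ n, ∀ m, n ≤ m → ∀ δ ∈ H n,
      ∃ i : ℕ, f ^ i • δ ∈ H m
  · let T : Set R := {f | ∃ n, ∀ m, n ≤ m → ∀ δ ∈ H n, ∃ i : ℕ, f ^ i • δ ∈ H m}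
    have hT : Ideal.span T = ⊤ := by
      by_contra h
      obtain ⟨P, hP, hle⟩ := Ideal.exists_le_maximal _ h
      obtain ⟨f, hf, hn⟩ := hstab P hP.isPrime
      exact hf (hle (Ideal.subset_span hn))
    obtain ⟨t, htT, ht⟩ := Submodule.mem_span_finite_of_mem_span ((Ideal.eq_top_iff_one _).1 hT)
    have htop : Ideal.span (t : Set R) = ⊤ := (Ideal.eq_top_iff_one _).2 ht
    choose n hn using fun f : t => htT f.2
    refine ⟨t.attach.sup n, fun m hm => le_antisymm (hH hm) fun δ hδ => ?_⟩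
    let I : Ideal R := (H m).comap (LinearMap.toSpanSingleton R M δ)
    have hI : I.radical = ⊤ := by
      refine top_le_iff.1 (htop ▸ Ideal.span_le.2 fun f hf => ?_)
      obtain ⟨i, hi⟩ := hn ⟨f, hf⟩ m ((Finset.le_sup (Finset.mem_attach t ⟨f, hf⟩)).trans hm) δ
        (hH (Finset.le_sup (Finset.mem_attach t ⟨f, hf⟩)) hδ)
      exact ⟨i, hi⟩
    have h1 : (1 : R) ∈ I := (Ideal.eq_top_iff_one I).1 (Ideal.radical_eq_top.1 hI)
    simpa using (show (1 : R) • δ ∈ H m from h1)
  exfalso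
  push Not at hstab
  obtain ⟨p, hp, hbad⟩ := hstab
  have hex : ∀ f : R, f ∉ p → ∀ n, ∃ m, n ≤ m ∧ ∃ δ ∈ H n, ∀ i : ℕ, f ^ i • δ ∉ H m := hbad
  obtain ⟨e, he⟩ : ∃ e : ℕ → R × M, S ⊆ Set.range e := by
    rcases S.eq_empty_or_nonempty with h | h
    · exact ⟨fun _ => 0, by simp [h]⟩
    · obtain ⟨e, rfl⟩ := hS.exists_eq_range h
      exact ⟨e, le_rfl⟩
  let V : ℕ → Submodule k (R × M) := fun N => Submodule.span k (e '' Set.Iio N)
  haveI hV : ∀ N, FiniteDimensional k (V N) := fun N =>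
    FiniteDimensional.span_of_finite k ((Set.finite_Iio N).image e)
  have step : ∀ (N : ℕ) (q : ℕ × M), ∃ q' : ℕ × M, q.1 < q'.1 ∧ q'.2 - q.2 ∈ H q.1 ∧
      ∀ w : V N, ¬ Bad (H q'.1) p q'.2 w := fun N q => by
    obtain ⟨m, hm, s', hs', h⟩ := exists_extension H hH p hex (V N) q.1 q.2
    exact ⟨(m + 1, s'), Nat.lt_succ_of_le hm, hs', fun w hw => h w (bad_mono (hH (Nat.le_succ m)) hw)⟩
  choose F hF1 hF2 hF3 using step
  let q : ℕ → ℕ × M := fun N => Nat.rec (0, 0) (fun j r => F j r) N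
  have hlt : ∀ N, (q N).1 < (q (N + 1)).1 := fun N => hF1 N (q N)
  have hid : ∀ N, N ≤ (q N).1 := fun N => by
    induction N with
    | zero => exact Nat.zero_le _
    | succ N ih => exact Nat.succ_le_of_lt (ih.trans_lt (hlt N))
  have hmono : Monotone fun N => (q N).1 := monotone_nat_of_le_succ fun N => (hlt N).le
  have hco : ∀ a b, a ≤ b → (q b).2 - (q a).2 ∈ H (q a).1 := fun a b h => by
    induction h with
    | refl => simp
    | @step b h ih =>
      have := (H (q a).1).add_mem ih (hH (hmono h) (hF2 b (q b)))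
      rwa [add_comm, sub_add_sub_cancel] at this
  obtain ⟨f, hf, g, hg⟩ := hlift (fun n => (q n).2)
    (fun n => hH (hid n) (hco n (n + 1) (Nat.le_succ n))) p hp
  obtain ⟨N, hN⟩ : ∃ N, (f, g) ∈ V N := by
    have hdir : Monotone V := fun a b h => Submodule.span_mono (Set.image_mono (Set.Iio_subset_Iio h))
    have hle : (⊤ : Submodule k (R × M)) ≤ ⨆ N, V N := by
      rw [← hspan]
      refine Submodule.span_le.2 fun x hx => ?_
      obtain ⟨j, rfl⟩ := he hx
      exact le_iSup V (j + 1) (Submodule.subset_span ⟨j, Nat.lt_succ_self j, rfl⟩)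
    exact (Submodule.mem_iSup_of_directed V hdir.directed_le).1 (hle Submodule.mem_top)
  refine hF3 N (q N) ⟨(f, g), hN⟩ ?_
  refine bad_congr ?_ (show Bad (H (q (N + 1)).1) p (q (q (N + 1)).1).2 (f, g) from ⟨hf, hg _⟩)
  exact hco (N + 1) _ (hid (N + 1))

/-- A countably generated module over an algebra of finite type is countably spanned. -/
theorem exists_countable_span (hR : Algebra.FiniteType k R) (s : Set M) (hs : s.Countable)
    (hspan : Submodule.span R s = ⊤) :
    ∃ S : Set (R × M), S.Countable ∧ Submodule.span k S = ⊤ := by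
  obtain ⟨n, φ, hφ⟩ := Algebra.FiniteType.iff_quotient_mvPolynomial''.1 hR
  let b : Set R := φ '' Set.range (MvPolynomial.basisMonomials (Fin n) k)
  have hb : Submodule.span k b = ⊤ := by
    show Submodule.span k (φ.toLinearMap '' Set.range (MvPolynomial.basisMonomials (Fin n) k)) = ⊤
    rw [Submodule.span_image, (MvPolynomial.basisMonomials (Fin n) k).span_eq, Submodule.map_top,
      LinearMap.range_eq_top.2 hφ]
  have hbc : b.Countable := (Set.countable_range _).image _
  refine ⟨(LinearMap.inl k R M '' b) ∪ (LinearMap.inr k R M '' (Set.image2 (· • ·) b s)),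
    (hbc.image _).union ((hbc.image2 hs _).image _), ?_⟩
  have hM : Submodule.span k (Set.image2 (· • ·) b s) = ⊤ := by
    rw [eq_top_iff]
    intro x _
    have h1 : x ∈ (Submodule.span R s).restrictScalars k := by simp [hspan]
    rw [← Submodule.span_smul_of_span_eq_top hb] at h1
    simpa [Set.image2_smul] using h1
  rw [Submodule.span_union, Submodule.span_image, Submodule.span_image, hb, hM,
    Submodule.map_top, Submodule.map_top]
  exact LinearMap.sup_range_inl_inr

end Groth.Agent.TowerStabLib
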