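import Groth.Prelude.Def_W4c2derhamsingLim
import Groth.Agent.TowerStabLib.Algebra
import Groth.Agent.ProjBundleLib.EpiClosed
import Groth.Agent.QCohLib.FPSections
import Groth.Agent.OmegaUnivLib.Compat
import Groth.Agent.PullbackMod.Hom

/-! Towers of quasi-coherent quotients whose limit is a quotient stabilize. -/

set_option autoImplicit false
set_option linter.style.haveILetI false
set_option backward.isDefEq.respectTransparency false

universe u

open CategoryTheory CategoryTheory.Limits AlgebraicGeometry TopologicalSpace Opposite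

noncomputable section

namespace Groth.Agent.TowerStabLib

variable {X : Scheme.{u}}

/-- The sections of a map over an open set, as a linear map. -/
def secL {M N : X.Modules} (φ : M ⟶ N) (U : X.Opens) : Γ(M, U) →ₗ[Γ(X, U)] Γ(N, U) where
  toFun := φ.app U
  map_add' := map_add _
  map_smul' := fun r m => Scheme.Modules.Hom.app_smul φ r m

theorem exists_eventually_injective (k : Type u) [Field k] [X.Over (Spec (CommRingCat.of k))]
    [LocallyOfFiniteType (X ↘ Spec (CommRingCat.of k))]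
    (Q : ℕᵒᵖ ⥤ X.Modules) (hQ : ∀ n : ℕ, Coh.IsQCoh (Q.obj (op n))) (c : Cone Q)
    (hG : Coh.IsQCoh c.pt) (hepi : ∀ n : ℕ, Epi (c.π.app (op n))) (hlim : Epi (limit.lift Q c))
    {U : X.Opens} (hU : IsAffineOpen U) (s₀ : Set Γ(c.pt, U)) (hs₀ : s₀.Countable)
    (hspan : Submodule.span Γ(X, U) s₀ = ⊤) :
    ∃ N : ℕ, ∀ n : ℕ, N ≤ n →
      Function.Bijective ((Q.map (homOfLE (Nat.le_succ n)).op).app U) := by
  let π : ∀ n : ℕ, c.pt ⟶ Q.obj (op n) := fun n => c.π.app (op n)
  have hw : ∀ {a b : ℕ} (h : a ≤ b), π b ≫ Q.map (homOfLE h).op = π a := fun h => c.w _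
  have hwU : ∀ {a b : ℕ} (h : a ≤ b) (m : Γ(c.pt, U)),
      (Q.map (homOfLE h).op).app U ((π b).app U m) = (π a).app U m := fun h m => by
    rw [← hw h]; rfl
  have hsurj : ∀ n, Function.Surjective ((π n).app U) := fun n => by
    haveI := hepi n
    exact ProjBundleLib.surjective_app_of_epi hG (hQ n) _ hU
  let H : ℕ → Submodule Γ(X, U) Γ(c.pt, U) := fun n => LinearMap.ker (secL (π n) U)
  have hH : Antitone H := fun a b h m hm => by
    show (π a).app U m = 0
    rw [← hwU h, show (π b).app U m = 0 from hm, map_zero]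
  let α : k →+* Γ(X, U) :=
    ((X ↘ Spec (CommRingCat.of k)).appLE ⊤ U (by simp)).hom.comp
      (Scheme.ΓSpecIso (CommRingCat.of k)).inv.hom
  have hα : α.FiniteType :=
    ((X ↘ Spec (CommRingCat.of k)).finiteType_appLE (isAffineOpen_top _) hU (by simp)).comp
      (RingHom.FiniteType.of_surjective _
        (ConcreteCategory.bijective_of_isIso (Scheme.ΓSpecIso (CommRingCat.of k)).inv).2)
  letI : Algebra k Γ(X, U) := α.toAlgebra
  letI : Module k Γ(c.pt, U) := Module.compHom _ α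
  haveI : IsScalarTower k Γ(X, U) Γ(c.pt, U) :=
    IsScalarTower.of_algebraMap_smul fun _ _ => rfl
  obtain ⟨S, hSc, hSs⟩ := exists_countable_span (k := k) (M := Γ(c.pt, U)) hα s₀ hs₀ hspan
  have hlift : ∀ s : ℕ → Γ(c.pt, U), (∀ n, s (n + 1) - s n ∈ H n) → ∀ p : Ideal Γ(X, U), p.IsPrime →
      ∃ f : Γ(X, U), f ∉ p ∧ ∃ g : Γ(c.pt, U), ∀ n, ∃ i : ℕ, f ^ i • (f • s n - g) ∈ H n := by
    intro s hs p hp
    have hcompat : ∀ {a b : ℕ}, a ≤ b → (π a).app U (s b) = (π a).app U (s a) := fun {a b} h => by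
      induction h with
      | refl => rfl
      | @step b h ih =>
        rw [← ih]
        have h2 : (π a).app U (s (b + 1) - s b) = 0 := hH h (hs b)
        rwa [map_sub, sub_eq_zero] at h2
    haveI : PreservesLimit Q (SheafOfModules.evaluation.{u} X.ringCatSheaf (op U) : X.Modules ⥤ _) :=
      SheafOfModules.evaluationPreservesLimit (R := X.ringCatSheaf) Q (op U)
    let E : X.Modules ⥤ Type u := (SheafOfModules.evaluation.{u} X.ringCatSheaf (op U) : X.Modules ⥤ _) ⋙ forget _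
    have hl := isLimitOfPreserves E (limit.isLimit Q)
    let T : ∀ n : ℕᵒᵖ, (Q ⋙ E).obj n := fun n => (π n.unop).app U (s n.unop)
    have hT : T ∈ (Q ⋙ E).sections := by
      intro a b h
      show (Q.map (homOfLE (leOfHom h.unop)).op).app U ((π a.unop).app U (s a.unop)) = (π b.unop).app U (s b.unop)
      rw [hwU, hcompat (leOfHom h.unop)]
    obtain ⟨σ, hσ, -⟩ := (Types.isLimit_iff _).1 ⟨hl⟩ T hT
    have hσ' : ∀ n : ℕ, (limit.π Q (op n)).app U σ = (π n).app U (s n) := fun n => hσ (op n)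
    -- a point of `U` at the prime `p`
    let x : X := hU.fromSpec ⟨p, hp⟩
    have hxU : x ∈ U := by
      have : x ∈ Set.range hU.fromSpec := ⟨_, rfl⟩
      rwa [hU.range_fromSpec] at this
    obtain ⟨z, hz⟩ := (PullbackMod.epi_iff_stalk _).1 hlim x ((limit Q).presheaf.germ U x hxU σ)
    obtain ⟨W, hxW, g₀, rfl⟩ := TopCat.Presheaf.exists_germ_eq c.pt.presheaf z
    rw [PullbackMod.stalkLin_germ] at hz
    obtain ⟨W', hxW', iW, iU, he⟩ := TopCat.Presheaf.germ_eq (limit Q).presheaf x hxW hxU _ _ hz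
    obtain ⟨f, hfW, hxf⟩ := hU.exists_basicOpen_le ⟨x, hxW'⟩ hxU
    have hfp : f ∉ p := by
      intro hfp
      have h1 : (⟨p, hp⟩ : PrimeSpectrum Γ(X, U)) ∈ hU.fromSpec ⁻¹ᵁ X.basicOpen f := hxf
      rw [hU.fromSpec_preimage_basicOpen] at h1
      exact h1 hfp
    letI := Module.compHom Γ(c.pt, X.basicOpen f) (X.presheaf.map (homOfLE (X.basicOpen_le f)).op).hom
    obtain ⟨r, hr⟩ := QCohLib.exists_isLocalizedModule_res c.pt hU f
    let g₁ : Γ(c.pt, X.basicOpen f) := c.pt.presheaf.map (homOfLE (hfW.trans iW.le)).op g₀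
    have hg₁ : ∀ n : ℕ, (π n).app (X.basicOpen f) g₁ =
        (Q.obj (op n)).presheaf.map (homOfLE (X.basicOpen_le f)).op ((π n).app U (s n)) := fun n => by
      have hlp : (π n).app W g₀ = (limit.π Q (op n)).app W ((limit.lift Q c).app W g₀) := by
        rw [← ConcreteCategory.comp_apply, ← Scheme.Modules.Hom.comp_app, limit.lift_π]
      have e1 : (limit Q).presheaf.map (homOfLE (hfW.trans iW.le)).op ((limit.lift Q c).app W g₀) =
          (limit Q).presheaf.map (homOfLE (X.basicOpen_le f)).op σ := by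
        rw [show (homOfLE (hfW.trans iW.le)).op = iW.op ≫ (homOfLE hfW).op from Subsingleton.elim _ _,
          show (homOfLE (X.basicOpen_le f)).op = iU.op ≫ (homOfLE hfW).op from Subsingleton.elim _ _,
          Functor.map_comp, Functor.map_comp, ConcreteCategory.comp_apply, ConcreteCategory.comp_apply]
        exact congrArg _ he
      have e2 := congrArg ((limit.π Q (op n)).app (X.basicOpen f)) e1
      rw [QCohLib.app_res, QCohLib.app_res, hσ', ← hlp] at e2
      exact (QCohLib.app_res (π n) _ g₀).trans e2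
    have hext := QCohLib.locAt c.pt hU
    obtain ⟨j, g', hg'⟩ := hext.extend f g₁
    refine ⟨f ^ (j + 1), fun h => hfp (hp.mem_of_pow_mem _ h), f • g', fun n => ?_⟩
    have hz0 : (Q.obj (op n)).presheaf.map (homOfLE (X.basicOpen_le f)).op
        ((π n).app U (f ^ (j + 1) • s n - f • g')) = 0 := by
      have hgn : (π n).app (X.basicOpen f) (c.pt.presheaf.map (homOfLE (X.basicOpen_le f)).op g') = _ :=
        congrArg ((π n).app (X.basicOpen f)) hg'
      rw [QCohLib.app_res, QCohLib.app_sc, hg₁] at hgn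
      rw [map_sub, map_sub, Scheme.Modules.Hom.app_smul, Scheme.Modules.Hom.app_smul,
        Scheme.Modules.map_smul, Scheme.Modules.map_smul, hgn, pow_succ', map_mul, mul_smul, sub_eq_zero]
      rfl
    obtain ⟨i, hi⟩ := (QCohLib.locAt (Q.obj (op n)) hU).kill f _ hz0
    refine ⟨i, ?_⟩
    show (π n).app U ((f ^ (j + 1)) ^ i • (f ^ (j + 1) • s n - f • g')) = 0
    rw [Scheme.Modules.Hom.app_smul, show (f ^ (j + 1)) ^ i = f ^ (j * i) * f ^ i by ring, mul_smul]
    have hi' : f ^ i • (π n).app U (f ^ (j + 1) • s n - f • g') = 0 :=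
        (QCohLib.sc_le_rfl (f ^ i) _).symm.trans hi
    rw [hi', smul_zero]
  obtain ⟨N, hN⟩ := exists_stable H hH S hSc hSs hlift
  refine ⟨N, fun n hn => ⟨(injective_iff_map_eq_zero _).2 fun q hq => ?_, fun q => ?_⟩⟩
  · obtain ⟨m, rfl⟩ := hsurj _ q
    have h1 : m ∈ H n := by
      show (π n).app U m = 0
      rw [← hwU (Nat.le_succ n) m]; exact hq
    rw [hN n hn, ← hN (n + 1) (hn.trans n.le_succ)] at h1
    exact h1
  · obtain ⟨m, rfl⟩ := hsurj _ q
    exact ⟨_, hwU (Nat.le_succ n) m⟩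

theorem eventually_isIso (k : Type u) [Field k] [X.Over (Spec (CommRingCat.of k))]
    [LocallyOfFiniteType (X ↘ Spec (CommRingCat.of k))] [CompactSpace X]
    (Q : ℕᵒᵖ ⥤ X.Modules) (hQ : ∀ n : ℕ, Coh.IsQCoh (Q.obj (op n))) (c : Cone Q)
    (hG : Coh.IsQCoh c.pt)
    (hGc : ∀ U : X.affineOpens, ∃ s : Set (c.pt.val.obj (op (U : X.Opens))),
        s.Countable ∧ Submodule.span (X.ringCatSheaf.obj.obj (op (U : X.Opens))) s = ⊤)
    (hepi : ∀ n : ℕ, Epi (c.π.app (op n))) (hlim : Epi (limit.lift Q c)) :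
    ∃ N : ℕ, ∀ n : ℕ, N ≤ n → IsIso (Q.map (homOfLE (Nat.le_succ n)).op) := by
  have hN : ∀ U : X.affineOpens, ∃ N : ℕ, ∀ n : ℕ, N ≤ n →
      Function.Bijective ((Q.map (homOfLE (Nat.le_succ n)).op).app (U : X.Opens)) := fun U => by
    obtain ⟨s, hs, hsp⟩ := hGc U
    exact exists_eventually_injective k Q hQ c hG hepi hlim U.2 s hs hsp
  choose N hN using hN
  have hcov : (Set.univ : Set X) ⊆ ⋃ U : X.affineOpens, ((U : X.Opens) : Set X) := fun x _ => by
    obtain ⟨U, hU, hx, -⟩ := exists_isAffineOpen_mem_and_subset (x := x) (U := (⊤ : X.Opens)) trivial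
    exact Set.mem_iUnion.2 ⟨⟨U, hU⟩, hx⟩
  obtain ⟨t, ht⟩ := isCompact_univ.elim_finite_subcover _ (fun U : X.affineOpens => (U : X.Opens).2) hcov
  refine ⟨t.sup N, fun n hn => ?_⟩
  haveI := hQ n
  haveI := hQ (n + 1)
  refine OmegaUnivLib.isIso_of_bijective_cover _ fun x => ?_
  obtain ⟨U, hU, hx⟩ := Set.mem_iUnion₂.1 (ht (Set.mem_univ x))
  exact ⟨U, U.2, hx, hN U n ((Finset.le_sup hU).trans hn)⟩

end Groth.Agent.TowerStabLib
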