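import Groth.Agent.TowerStabLib.Sheaf
import Groth.Agent.QCohLib.Exact
import Groth.Agent.S4812

/-! A limit of quasi-coherent modules that is a quotient of a countably generated one. -/

set_option autoImplicit false
set_option linter.style.haveILetI false
set_option backward.isDefEq.respectTransparency false

universe u

open CategoryTheory CategoryTheory.Limits AlgebraicGeometry TopologicalSpace Opposite

noncomputable section

namespace Groth.Agent.TowerStabLib

variable {X : Scheme.{u}}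

theorem exists_kernel_comp (k : Type u) [Field k] [X.Over (Spec (CommRingCat.of k))]
    [LocallyOfFiniteType (X ↘ Spec (CommRingCat.of k))] [CompactSpace X]
    (F : ℕᵒᵖ ⥤ X.Modules) (hF : ∀ n : ℕ, Coh.IsQCoh (F.obj (op n)))
    (G : X.Modules) (hG : Coh.IsQCoh G)
    (hGc : ∀ U : X.affineOpens, ∃ s : Set (G.val.obj (op (U : X.Opens))),
        s.Countable ∧ Submodule.span (X.ringCatSheaf.obj.obj (op (U : X.Opens))) s = ⊤)
    (φ : G ⟶ limit F) [Epi φ] :
    ∃ N : ℕ, kernel.ι (φ ≫ limit.π F (op N)) ≫ φ = 0 := by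
  let ψ : ∀ n : ℕ, G ⟶ F.obj (op n) := fun n => φ ≫ limit.π F (op n)
  have hψ : ∀ n, ψ (n + 1) ≫ F.map (homOfLE (Nat.le_succ n)).op = ψ n := fun n => by
    show (φ ≫ limit.π F (op (n + 1))) ≫ _ = φ ≫ limit.π F (op n)
    rw [Category.assoc, limit.w]
  have hI : ∀ n, Coh.IsQCoh (Abelian.image (ψ n)) := fun n => by
    haveI := (QCohLib.isQCoh_image (ψ n) hG (hF n)).2
    exact (QCohLib.isQCoh_image (cokernel.π (ψ n)) (hF n) inferInstance).1
  have hst : ∀ n, (Abelian.image.ι (ψ (n + 1)) ≫ F.map (homOfLE (Nat.le_succ n)).op) ≫ cokernel.π (ψ n) = 0 := fun n => by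
    rw [← cancel_epi (Abelian.factorThruImage (ψ (n + 1))), comp_zero, ← Category.assoc, ← Category.assoc,
      Abelian.image.fac, hψ, cokernel.condition]
  let st : ∀ n, Abelian.image (ψ (n + 1)) ⟶ Abelian.image (ψ n) := fun n =>
    kernel.lift _ (Abelian.image.ι (ψ (n + 1)) ≫ F.map (homOfLE (Nat.le_succ n)).op) (hst n)
  have hstι : ∀ n, st n ≫ Abelian.image.ι (ψ n) = Abelian.image.ι (ψ (n + 1)) ≫ F.map (homOfLE (Nat.le_succ n)).op :=
    fun n => kernel.lift_ι _ _ _
  let Q : ℕᵒᵖ ⥤ X.Modules := Functor.ofOpSequence (X := fun n => Abelian.image (ψ n)) st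
  have hQs : ∀ n, Q.map (homOfLE (Nat.le_succ n)).op = st n :=
    fun n => Functor.ofOpSequence_map_homOfLE_succ (X := fun n => Abelian.image (ψ n)) st n
  have hfac : ∀ n, Abelian.factorThruImage (ψ (n + 1)) ≫ st n = Abelian.factorThruImage (ψ n) := fun n => by
    rw [← cancel_mono (Abelian.image.ι (ψ n)), Category.assoc, hstι, Abelian.image.fac, ← Category.assoc,
      Abelian.image.fac, hψ]
  let ι : Q ⟶ F := NatTrans.ofOpSequence (fun n => Abelian.image.ι (ψ n)) (fun n => by
    show Q.map (homOfLE (Nat.le_succ n)).op ≫ _ = _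
    rw [hQs]; exact hstι n)
  let π : (Functor.const ℕᵒᵖ).obj G ⟶ Q := NatTrans.ofOpSequence (fun n => Abelian.factorThruImage (ψ n)) (fun n => by
    show 𝟙 G ≫ _ = _ ≫ Q.map (homOfLE (Nat.le_succ n)).op
    rw [hQs, Category.id_comp, hfac])
  let c : Cone Q := ⟨G, π⟩
  haveI : ∀ j : ℕᵒᵖ, Mono (ι.app j) := fun j => inferInstanceAs (Mono (Abelian.image.ι (ψ j.unop)))
  have hcomp : limit.lift Q c ≫ limMap ι = φ := limit.hom_ext fun j => by
    rw [Category.assoc, limMap_π, limit.lift_π_assoc]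
    exact Abelian.image.fac (ψ j.unop)
  haveI : Mono (limMap ι) := ⟨fun a b h => limit.hom_ext fun j => by
    rw [← cancel_mono (ι.app j), Category.assoc, Category.assoc, ← limMap_π, ← Category.assoc, h, Category.assoc]⟩
  haveI : Epi (limMap ι) := by
    haveI : Epi (limit.lift Q c ≫ limMap ι) := by rw [hcomp]; infer_instance
    exact epi_of_epi (limit.lift Q c) _
  haveI : IsIso (limMap ι) := isIso_of_mono_of_epi _
  have hlim : Epi (limit.lift Q c) := by
    rw [show limit.lift Q c = φ ≫ inv (limMap ι) by rw [← hcomp, Category.assoc, IsIso.hom_inv_id, Category.comp_id]]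
    infer_instance
  obtain ⟨N, hN⟩ := eventually_isIso k Q hI c hG hGc (fun n => inferInstanceAs (Epi (Abelian.factorThruImage (ψ n)))) hlim
  have hker : kernel.ι (ψ N) ≫ φ = 0 := by
    have h0 : ∀ n, kernel.ι (ψ N) ≫ Abelian.factorThruImage (ψ (N + n)) = 0 := fun n => by
      induction n with
      | zero =>
        rw [← cancel_mono (Abelian.image.ι (ψ N)), Category.assoc, zero_comp]
        exact (congrArg _ (Abelian.image.fac (ψ N))).trans (kernel.condition _)
      | succ n ih =>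
        haveI : IsIso (st (N + n)) := by
          have := hN (N + n) (Nat.le_add_right N n)
          rwa [hQs] at this
        rw [← cancel_mono (st (N + n)), Category.assoc, zero_comp]
        exact (congrArg _ (hfac (N + n))).trans ih
    refine limit.hom_ext fun j => ?_
    rw [zero_comp, Category.assoc, ← limit.w F (homOfLE (Nat.le_add_left j.unop N)).op]
    show kernel.ι (ψ N) ≫ φ ≫ limit.π F (op (N + j.unop)) ≫ _ = 0
    rw [← Category.assoc φ, show φ ≫ limit.π F (op (N + j.unop)) = _ from (Abelian.image.fac (ψ (N + j.unop))).symm,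
      Category.assoc, reassoc_of% h0 j.unop, zero_comp]
  exact ⟨N, hker⟩

theorem isQCoh_limit (k : Type u) [Field k] [X.Over (Spec (CommRingCat.of k))]
    [LocallyOfFiniteType (X ↘ Spec (CommRingCat.of k))] [CompactSpace X]
    (F : ℕᵒᵖ ⥤ X.Modules) (hF : ∀ n : ℕ, Coh.IsQCoh (F.obj (op n)))
    (G : X.Modules) (hG : Coh.IsQCoh G)
    (hGc : ∀ U : X.affineOpens, ∃ s : Set (G.val.obj (op (U : X.Opens))),
        s.Countable ∧ Submodule.span (X.ringCatSheaf.obj.obj (op (U : X.Opens))) s = ⊤)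
    (φ : G ⟶ limit F) [Epi φ] :
    Coh.IsQCoh (limit F) ∧
      (∀ U : X.affineOpens, ∃ s : Set ((limit F).val.obj (op (U : X.Opens))),
        s.Countable ∧ Submodule.span (X.ringCatSheaf.obj.obj (op (U : X.Opens))) s = ⊤) ∧
      (Coh.IsCoh G → Coh.IsCoh (limit F)) := by
  obtain ⟨N, hker⟩ := exists_kernel_comp k F hF G hG hGc φ
  let ψ : ∀ n : ℕ, G ⟶ F.obj (op n) := fun n => φ ≫ limit.π F (op n)
  let S : ShortComplex X.Modules := ShortComplex.mk (kernel.ι (ψ N)) φ hker
  have hS : S.ShortExact := by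
    refine ShortComplex.ShortExact.mk' (ShortComplex.exact_of_f_is_kernel _ ?_) inferInstance ‹Epi φ›
    exact KernelFork.IsLimit.ofι' (kernel.ι (ψ N)) hker
      fun t ht => ⟨kernel.lift _ t (by show t ≫ φ ≫ _ = 0; rw [reassoc_of% ht, zero_comp]), kernel.lift_ι _ _ _⟩
  have hK : Coh.IsQCoh (kernel (ψ N)) := (QCohLib.isQCoh_image (ψ N) hG (hF N)).1
  have hL : Coh.IsQCoh (limit F) := QCohLib.isQCoh_X₃ hS hK hG
  refine ⟨hL, fun U => ?_, fun hC => ⟨hL, ?_⟩⟩
  · obtain ⟨s, hs, hsp⟩ := hGc U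
    refine ⟨secL φ (U : X.Opens) '' s, hs.image _, ?_⟩
    refine (Submodule.span_image (secL φ (U : X.Opens)) (s := s)).trans ?_
    rw [show Submodule.span Γ(X, (U : X.Opens)) s = ⊤ from hsp, Submodule.map_top, LinearMap.range_eq_top]
    exact QCohLib.app_surjective hS hK U.2
  · haveI := hG
    haveI := hL
    exact Groth.Agent.S4812.isFT_of_epi hC.2 φ

end Groth.Agent.TowerStabLib
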