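import Groth.Agent.TowerStabLib.ML
import Groth.Agent.TowerStabLib.Limit
import Groth.Agent.DCohLib.StalkTensor

/-! Tensor products with limits of countably quasi-coherent towers. -/

set_option autoImplicit false
set_option linter.style.haveILetI false
set_option backward.isDefEq.respectTransparency false

universe u

open CategoryTheory CategoryTheory.Limits AlgebraicGeometry TopologicalSpace Opposite

noncomputable section

namespace Groth.Agent.TowerStabLib

variable {X : Scheme.{u}}

/-- Tensoring with a flat module preserves monomorphisms. -/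
theorem mono_tensorRight_map {A B : X.Modules} (f : A ⟶ B) [Mono f] (E : X.Modules) (hE : FlatMod.IsFlat E) :
    Mono ((LimSh.tensorRight E).map f) := by
  rw [show (LimSh.tensorRight E).map f = ((DCoh.tensorBi (X := X)).map f).app E from rfl]
  refine (PullbackMod.mono_iff_stalk _).2 fun x => ?_
  haveI : Module.Flat (X.presheaf.stalk x) (E.presheaf.stalk x) := hE x
  intro a b hab
  obtain ⟨a, rfl⟩ := (DCohLib.stalkTensor x A E).surjective a
  obtain ⟨b, rfl⟩ := (DCohLib.stalkTensor x A E).surjective b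
  have h2 : DCohLib.stalkTensor x B E ((PullbackMod.stalkLin f x).rTensor _ a) =
      DCohLib.stalkTensor x B E ((PullbackMod.stalkLin f x).rTensor _ b) :=
    (DCohLib.stalkTensor_natural_left x f a).symm.trans (hab.trans (DCohLib.stalkTensor_natural_left x f b))
  exact congrArg _ (Module.Flat.rTensor_preserves_injective_linearMap _
    ((PullbackMod.mono_iff_stalk f).1 inferInstance x) ((DCohLib.stalkTensor x B E).injective h2))

variable {F : ℕᵒᵖ ⥤ X.Modules}

/-- In a Mittag-Leffler tower the stable image on an affine open comes from the limit. -/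
theorem range_le_range_proj (hF : ∀ n : ℕ, Coh.IsQCoh (F.obj (op n))) (hML : IsML F) {U : X.Opens}
    (hU : IsAffineOpen U) (n : ℕ) : ∃ m, ∃ hm : n ≤ m,
      (∀ m' (hm' : m ≤ m'), LinearMap.range (secL (F.map (homOfLE (hm.trans hm')).op) U) =
        LinearMap.range (secL (F.map (homOfLE hm).op) U)) ∧
      LinearMap.range (secL (F.map (homOfLE hm).op) U) ≤ LinearMap.range (secL (limit.π F (op n)) U) := by
  obtain ⟨d, hd, hdd⟩ := exists_limit_section hF hML hU n
  refine ⟨d, hd, hdd, ?_⟩
  rintro _ ⟨w, rfl⟩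
  let p : ∀ {a b : ℕ}, a ≤ b → Γ(F.obj (op b), U) → Γ(F.obj (op a), U) := fun h t => (F.map (homOfLE h).op).app U t
  have hp : ∀ {a b c : ℕ} (h : a ≤ b) (h' : b ≤ c) (t : Γ(F.obj (op c), U)),
      p h (p h' t) = p (h.trans h') t := fun h h' t => map_map_app F h h' U t
  let Stable : ∀ j : ℕ, Γ(F.obj (op j), U) → Prop := fun j t => ∀ (m : ℕ) (h : j ≤ m), ∃ s, p h s = t
  have hstab : ∀ {j N : ℕ} (hN : j ≤ N)
      (_ : ∀ m' (hm' : N ≤ m'), LinearMap.range (secL (F.map (homOfLE (hN.trans hm')).op) U) =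
        LinearMap.range (secL (F.map (homOfLE hN).op) U))
      (s : Γ(F.obj (op N), U)), Stable j (p hN s) := by
    intro j N hN hE s m h
    obtain ⟨s', hs'⟩ : p hN s ∈ LinearMap.range (secL (F.map (homOfLE (hN.trans (le_max_left N m))).op) U) := by
      rw [hE _ (le_max_left N m)]; exact ⟨s, rfl⟩
    exact ⟨p (le_max_right N m) s', (hp h (le_max_right N m) s').trans hs'⟩
  have hsucc : ∀ (j : ℕ) (t : Γ(F.obj (op j), U)), Stable j t → ∃ v, Stable (j + 1) v ∧ p j.le_succ v = t :=
    fun j t ht => by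
    obtain ⟨N, hN, hE⟩ := exists_limit_section hF hML hU (j + 1)
    obtain ⟨s, hs⟩ := ht N (j.le_succ.trans hN)
    exact ⟨p hN s, hstab hN hE s, by rw [hp]; exact hs⟩
  choose step hstep hstep' using hsucc
  let seq : ∀ j : ℕ, {t : Γ(F.obj (op (n + j)), U) // Stable (n + j) t} :=
    fun j => Nat.rec ⟨p hd w, hstab hd hdd _⟩ (fun i t => ⟨step _ t.1 t.2, hstep _ t.1 t.2⟩) j
  have hseq : ∀ (a b : ℕ) (h : a ≤ b), p (Nat.add_le_add_left h n) (seq b).1 = (seq a).1 := by
    intro a b h
    induction h with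
    | refl =>
      show (F.map (homOfLE (le_refl (n + a))).op).app U _ = _
      rw [show (homOfLE (le_refl (n + a))).op = 𝟙 (op (n + a)) from Subsingleton.elim _ _, F.map_id]
      rfl
    | @step b h ih =>
      refine (hp (Nat.add_le_add_left h n) (Nat.le_succ (n + b)) (seq (b + 1)).1).symm.trans ?_
      rw [show p (Nat.le_succ (n + b)) (seq (b + 1)).1 = (seq b).1 from hstep' _ _ _]
      exact ih
  haveI : PreservesLimit F (SheafOfModules.evaluation.{u} X.ringCatSheaf (op U) : X.Modules ⥤ _) :=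
    SheafOfModules.evaluationPreservesLimit (R := X.ringCatSheaf) F (op U)
  let E : X.Modules ⥤ Type u := (SheafOfModules.evaluation.{u} X.ringCatSheaf (op U) : X.Modules ⥤ _) ⋙ forget _
  have hlim := isLimitOfPreserves E (limit.isLimit F)
  let T : ∀ j : ℕᵒᵖ, (F ⋙ E).obj j := fun j => p (Nat.le_add_left j.unop n) (seq j.unop).1
  have hT : T ∈ (F ⋙ E).sections := by
    intro a b h
    show p (leOfHom h.unop) (p (Nat.le_add_left a.unop n) (seq a.unop).1) = p (Nat.le_add_left b.unop n) (seq b.unop).1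
    rw [hp, ← hseq b.unop a.unop (leOfHom h.unop), hp]
  obtain ⟨y, hy, -⟩ := (Types.isLimit_iff _).1 ⟨hlim⟩ T hT
  refine ⟨y, (hy (op n)).trans ?_⟩
  show p (Nat.le_add_left n n) (seq n).1 = p hd w
  exact hseq 0 n (Nat.zero_le n)

theorem mono_and_isIso (k : Type u) [Field k] [X.Over (Spec (CommRingCat.of k))]
    [LocallyOfFiniteType (X ↘ Spec (CommRingCat.of k))] [CompactSpace X]
    (hF : ∀ n : ℕ, Coh.IsQCoh (F.obj (op n)))
    (hFc : ∀ n : ℕ, ∀ U : X.affineOpens, ∃ s : Set ((F.obj (op n)).val.obj (op (U : X.Opens))),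
          s.Countable ∧ Submodule.span (X.ringCatSheaf.obj.obj (op (U : X.Opens))) s = ⊤)
    (E : X.Modules) (hE : FlatMod.IsFlat E)
    (hL : Coh.IsQCoh (limit F)) (hLc : ∀ U : X.affineOpens, ∃ s : Set ((limit F).val.obj (op (U : X.Opens))),
        s.Countable ∧ Submodule.span (X.ringCatSheaf.obj.obj (op (U : X.Opens))) s = ⊤) :
    Mono (limit.post F (LimSh.tensorRight E)) ∧
      (IsZero (LimSh.limOneSh F) → IsIso (limit.post F (LimSh.tensorRight E))) := by
  obtain ⟨N, hN⟩ := exists_kernel_comp k F hF (limit F) hL hLc (𝟙 _)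
  haveI hmono : Mono (limit.π F (op N)) := by
    refine Preadditive.mono_of_cancel_zero _ fun {Z} z hz => ?_
    have h1 := kernel.lift_ι (𝟙 _ ≫ limit.π F (op N)) z (by rw [Category.id_comp]; exact hz)
    rw [← h1, show kernel.ι (𝟙 (limit F) ≫ limit.π F (op N)) = 0 from by simpa using hN, comp_zero]
  let T := LimSh.tensorRight E
  have hTm : Mono (T.map (limit.π F (op N))) := mono_tensorRight_map _ E hE
  refine ⟨?_, fun hz => ?_⟩
  · haveI : Mono (limit.post F T ≫ limit.π (F ⋙ T) (op N)) := by rw [limit.post_π]; exact hTm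
    exact mono_of_mono (limit.post F T) (limit.π (F ⋙ T) (op N))
  have hsub : ∀ U : X.Opens, Subsingleton Γ(LimSh.limOneSh F, U) := fun U => by
    refine subsingleton_of_forall_eq 0 fun v => ?_
    have h1 : (𝟙 (LimSh.limOneSh F) : _ ⟶ _).app U v = (0 : LimSh.limOneSh F ⟶ _).app U v := by
      rw [hz.eq_of_src (𝟙 _) 0]
    exact h1
  have hML : IsML F := isML_of_limOne k hF hFc fun U =>
    ⟨∅, Set.countable_empty, by
      haveI := hsub (U : X.Opens)
      exact Submodule.eq_top_iff'.2 fun v => by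
        rw [show v = 0 from @Subsingleton.elim _ (hsub (U : X.Opens)) v 0]; exact zero_mem _⟩
  have hr : ∀ n, ∃ m, ∃ hm : n ≤ m, ∃ r : F.obj (op m) ⟶ limit F, N ≤ n →
      r ≫ limit.π F (op n) = F.map (homOfLE hm).op := fun n => by
    obtain ⟨m, hm, hst⟩ := hML n
    by_cases hn : N ≤ n
    swap
    · exact ⟨m, hm, 0, fun h => absurd h hn⟩
    haveI : Mono (limit.π F (op n)) := by
      haveI : Mono (limit.π F (op n) ≫ F.map (homOfLE hn).op) := by rw [limit.w]; exact hmono
      exact mono_of_mono _ (F.map (homOfLE hn).op)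
    have hz0 : F.map (homOfLE hm).op ≫ cokernel.π (limit.π F (op n)) = 0 := by
      refine zero_of_zero_cover (hF m) _ fun x => ?_
      obtain ⟨U, hU, hxU, -⟩ := exists_isAffineOpen_mem_and_subset (x := x) (U := (⊤ : X.Opens)) trivial
      refine ⟨U, hU, hxU, fun v => ?_⟩
      obtain ⟨m₁, hm₁, hst₁, hle⟩ := range_le_range_proj hF hML hU n
      have h1 : LinearMap.range (secL (F.map (homOfLE hm).op) U) ≤
          LinearMap.range (secL (F.map (homOfLE (hm.trans (le_max_left m m₁))).op) U) :=
        range_le_of_imageSubobject_eq (hF _) (hF n) _ _ (hst _ (le_max_left m m₁)).symm hU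
      have h2 := (hst₁ _ (le_max_right m m₁)).le.trans hle
      obtain ⟨y, hy⟩ := h2 (h1 ⟨v, rfl⟩)
      rw [Scheme.Modules.Hom.comp_app, ConcreteCategory.comp_apply,
        show (F.map (homOfLE hm).op).app U v = (limit.π F (op n)).app U y from hy.symm,
        ← ConcreteCategory.comp_apply, ← Scheme.Modules.Hom.comp_app, cokernel.condition]
      rfl
    exact ⟨m, hm, Abelian.monoLift _ _ hz0, fun _ => Abelian.monoLift_comp _ _ _⟩
  choose m hm r hr using hr
  let β : limit (F ⋙ T) ⟶ T.obj (limit F) := limit.π (F ⋙ T) (op (m N)) ≫ T.map (r N)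
  refine ⟨β, ?_, ?_⟩
  · have h0 : limit.π F (op (m N)) ≫ r N = 𝟙 (limit F) := by
      rw [← cancel_mono (limit.π F (op N)), Category.assoc, hr N le_rfl, limit.w, Category.id_comp]
    show limit.post F T ≫ limit.π (F ⋙ T) (op (m N)) ≫ T.map (r N) = 𝟙 _
    rw [limit.post_π_assoc, ← T.map_comp, h0, T.map_id]
  · refine limit.hom_ext fun j => ?_
    obtain ⟨n⟩ := j
    rw [Category.assoc, Category.id_comp, limit.post_π]
    show (limit.π (F ⋙ T) (op (m N)) ≫ T.map (r N)) ≫ T.map (limit.π F (op n)) = _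
    let n' := max n N
    let M := max (m N) (m n')
    have hcomp : F.map (homOfLE (le_max_left (m N) (m n'))).op ≫ r N =
        F.map (homOfLE (le_max_right (m N) (m n'))).op ≫ r n' := by
      rw [← cancel_mono (limit.π F (op N)), Category.assoc, Category.assoc, hr N le_rfl,
        ← limit.w F (homOfLE (le_max_right n N)).op, reassoc_of% hr n' (le_max_right n N), ← F.map_comp, ← F.map_comp,
        ← F.map_comp]
      rfl
    rw [← limit.w (F ⋙ T) (homOfLE (le_max_left (m N) (m n'))).op, Functor.comp_map, Category.assoc, Category.assoc,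
      ← T.map_comp, ← T.map_comp, reassoc_of% hcomp, ← limit.w F (homOfLE (le_max_left n N)).op,
      reassoc_of% hr n' (le_max_right n N), ← F.map_comp, ← F.map_comp]
    exact limit.w (F ⋙ T) _

end Groth.Agent.TowerStabLib
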