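import Groth.Agent.TowerStabLib.LimOne
import Groth.Agent.S14616

/-! The Mittag-Leffler condition for towers of quasi-coherent modules. -/

set_option autoImplicit false
set_option linter.style.haveILetI false
set_option backward.isDefEq.respectTransparency false

universe u

open CategoryTheory CategoryTheory.Limits AlgebraicGeometry TopologicalSpace Opposite

noncomputable section

namespace Groth.Agent.TowerStabLib

variable {X : Scheme.{u}}

/-- The ranges over an affine open only depend on the image subobject. -/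
theorem range_le_of_imageSubobject_eq {A A' B : X.Modules} (hA' : Coh.IsQCoh A') (hB : Coh.IsQCoh B)
    (f : A ⟶ B) (g : A' ⟶ B) (h : imageSubobject f = imageSubobject g) {U : X.Opens} (hU : IsAffineOpen U) :
    LinearMap.range (secL f U) ≤ LinearMap.range (secL g U) := by
  rintro _ ⟨m, rfl⟩
  have hfac : (imageSubobject g).Factors f := by
    rw [← h]
    simpa using imageSubobject_factors_comp_self f (𝟙 A)
  have hzero : f ≫ cokernel.π g = 0 := by
    rw [← Subobject.factorThru_arrow _ f hfac, Category.assoc,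
      imageSubobject_arrow_comp_eq_zero (cokernel.condition g), comp_zero]
  let κ : A ⟶ Abelian.image g := kernel.lift _ f hzero
  have hI : Coh.IsQCoh (Abelian.image g) := by
    haveI := (QCohLib.isQCoh_image g hA' hB).2
    exact (QCohLib.isQCoh_image (cokernel.π g) hB inferInstance).1
  obtain ⟨m', hm'⟩ := ProjBundleLib.surjective_app_of_epi hA' hI (Abelian.factorThruImage g) hU (κ.app U m)
  refine ⟨m', ?_⟩
  show g.app U m' = f.app U m
  have h1 : g.app U m' = (Abelian.image.ι g).app U ((Abelian.factorThruImage g).app U m') := by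
    rw [← ConcreteCategory.comp_apply, ← Scheme.Modules.Hom.comp_app, Abelian.image.fac]
  have h2 : f.app U m = (Abelian.image.ι g).app U (κ.app U m) := by
    rw [← ConcreteCategory.comp_apply, ← Scheme.Modules.Hom.comp_app, kernel.lift_ι]
  rw [h1, h2, hm']

theorem zero_of_zero_cover {A B : X.Modules} (hA : Coh.IsQCoh A) (φ : A ⟶ B)
    (h : ∀ x : X, ∃ W : X.Opens, IsAffineOpen W ∧ x ∈ W ∧ ∀ m : Γ(A, W), φ.app W m = 0) : φ = 0 := by
  refine (PullbackMod.eq_zero_iff_stalk φ).2 fun x => ?_
  obtain ⟨W, hW, hx, hz⟩ := h x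
  letI := Module.compHom (A.presheaf.stalk x) (X.presheaf.germ W x hx).hom
  letI := Module.compHom (B.presheaf.stalk x) (X.presheaf.germ W x hx).hom
  haveI := hA
  haveI hM := FlatLocus.isLocalizedModule_germL A hW x hx
  refine LinearMap.ext fun z => ?_
  obtain ⟨⟨m, s⟩, hms⟩ := IsLocalizedModule.surj (hW.primeIdealOf ⟨x, hx⟩).asIdeal.primeCompl
    (FlatLocus.germL A W x hx) z
  have hu : IsUnit (X.presheaf.germ W x hx (s : Γ(X, W))) := by
    letI : Algebra Γ(X, W) (X.presheaf.stalk x) := (X.presheaf.germ W x hx).hom.toAlgebra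
    haveI : IsLocalization.AtPrime (X.presheaf.stalk x) (hW.primeIdealOf ⟨x, hx⟩).asIdeal :=
      hW.isLocalization_stalk ⟨x, hx⟩
    exact IsLocalization.map_units (X.presheaf.stalk x) s
  have h0 : X.presheaf.germ W x hx (s : Γ(X, W)) • PullbackMod.stalkLin φ x z = 0 := by
    rw [← map_smul]
    show PullbackMod.stalkLin φ x (X.presheaf.germ W x hx (s : Γ(X, W)) • z) = 0
    rw [show X.presheaf.germ W x hx (s : Γ(X, W)) • z = FlatLocus.germL A W x hx m from hms]
    refine (PullbackMod.stalkLin_germ φ x hx m).trans ?_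
    rw [hz, map_zero]
  exact hu.smul_eq_zero.1 h0

theorem imageSubobject_eq_of_ranges {A A' B : X.Modules} (hA : Coh.IsQCoh A) (f : A ⟶ B) (g : A' ⟶ B)
    (h : ∀ x : X, ∃ W : X.Opens, IsAffineOpen W ∧ x ∈ W ∧
      LinearMap.range (secL f W) ≤ LinearMap.range (secL g W)) :
    imageSubobject f ≤ imageSubobject g := by
  have hz : f ≫ cokernel.π g = 0 := zero_of_zero_cover hA _ fun x => by
    obtain ⟨W, hW, hx, hle⟩ := h x
    refine ⟨W, hW, hx, fun m => ?_⟩
    obtain ⟨m', hm'⟩ := hle ⟨m, rfl⟩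
    rw [Scheme.Modules.Hom.comp_app, ConcreteCategory.comp_apply]
    rw [show f.app W m = g.app W m' from hm'.symm, ← ConcreteCategory.comp_apply,
      ← Scheme.Modules.Hom.comp_app, cokernel.condition]
    rfl
  have key : (Abelian.imageIsoImage g).hom ≫ image.ι g = Abelian.image.ι g :=
    IsImage.isoExt_hom_m _ _
  refine imageSubobject_le f (kernel.lift _ f hz ≫ (Abelian.imageIsoImage g).hom ≫ (imageSubobjectIso g).inv) ?_
  rw [Category.assoc, Category.assoc, imageSubobject_arrow', key, kernel.lift_ι]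

variable (F : ℕᵒᵖ ⥤ X.Modules)

/-- The Mittag-Leffler condition by image subobjects. -/
def IsML : Prop := ∀ n : ℕ, ∃ (m : ℕ) (hm : n ≤ m), ∀ (m' : ℕ) (hm' : m ≤ m'),
  imageSubobject (F.map (homOfLE (hm.trans hm')).op) = imageSubobject (F.map (homOfLE hm).op)

variable {F}

theorem exists_limit_section (hF : ∀ n : ℕ, Coh.IsQCoh (F.obj (op n))) (hML : IsML F) {U : X.Opens}
    (hU : IsAffineOpen U) (n : ℕ) : ∃ m, ∃ hm : n ≤ m, ∀ m' (hm' : m ≤ m'),
      LinearMap.range (secL (F.map (homOfLE (hm.trans hm')).op) U) =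
        LinearMap.range (secL (F.map (homOfLE hm).op) U) := by
  obtain ⟨m, hm, h⟩ := hML n
  exact ⟨m, hm, fun m' hm' => le_antisymm
    (range_le_of_imageSubobject_eq (hF m) (hF n) _ _ (h m' hm') hU)
    (range_le_of_imageSubobject_eq (hF m') (hF n) _ _ (h m' hm').symm hU)⟩

theorem isZero_limOneSh (hF : ∀ n : ℕ, Coh.IsQCoh (F.obj (op n))) (hML : IsML F) : IsZero (LimSh.limOneSh F) := by
  haveI : Epi (LimSh.towerDiffSh F) := (PullbackMod.epi_iff_stalk _).2 fun x z => by
    obtain ⟨W, hxW, w, rfl⟩ := TopCat.Presheaf.exists_germ_eq (prodF F).presheaf z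
    obtain ⟨U, hU, hxU, hUW⟩ := exists_isAffineOpen_mem_and_subset (x := x) (U := W) hxW
    let t : ∀ n, Γ(F.obj (op (n + 1)), U) →+ Γ(F.obj (op n), U) := fun n =>
      (secL (F.map (homOfLE (Nat.le_succ n)).op) U).toAddMonoidHom
    have hmap : ∀ (a b : ℕ) (hab : a ≤ b) (v : Γ(F.obj (op b), U)),
        ((Functor.ofOpSequence (X := fun n => AddCommGrpCat.of Γ(F.obj (op n), U))
          (fun n => AddCommGrpCat.ofHom (t n))).map (homOfLE hab).op) v = (F.map (homOfLE hab).op).app U v := by
      intro a b hab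
      induction hab with
      | refl =>
        intro v
        rw [show (homOfLE (le_refl a)).op = 𝟙 (op a) from Subsingleton.elim _ _, F.map_id, CategoryTheory.Functor.map_id]
        rfl
      | @step b hab ih =>
        intro v
        rw [show (homOfLE (Nat.le.step hab)).op = (homOfLE (Nat.le_succ b)).op ≫ (homOfLE hab).op from Subsingleton.elim _ _,
          CategoryTheory.Functor.map_comp, Functor.ofOpSequence_map_homOfLE_succ, F.map_comp]
        exact ih _
    have hsurj := Groth.Agent.S14616.result (fun n => Γ(F.obj (op n), U)) t fun ⟨j⟩ => by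
      obtain ⟨m, hm, h⟩ := exists_limit_section hF hML hU j
      refine ⟨op m, (homOfLE hm).op, fun {k} g => ?_⟩
      obtain ⟨k⟩ := k
      rw [show g = (homOfLE (leOfHom g.unop)).op from Subsingleton.elim _ _]
      rintro _ ⟨v, rfl⟩
      have hv : (F.map (homOfLE hm).op).app U v ∈
          LinearMap.range (secL (F.map (homOfLE (le_trans hm (le_max_left m k))).op) U) := by
        rw [h _ (le_max_left m k)]; exact ⟨v, rfl⟩
      obtain ⟨v', hv'⟩ := hv
      refine ⟨(F.map (homOfLE (le_max_right m k)).op).app U v', ?_⟩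
      refine ((hmap j k _ _).trans (map_map_app F _ _ U v')).trans (hv'.trans (hmap j m hm v).symm)
    let b : ∀ n, Γ(F.obj (op n), U) := fun n => (prj F n).app U ((prodF F).presheaf.map (homOfLE hUW).op w)
    obtain ⟨a, ha⟩ := hsurj b
    obtain ⟨α, hα⟩ := exists_prod_section F U a
    refine ⟨(prodF F).presheaf.germ U x hxU α, ?_⟩
    rw [PullbackMod.stalkLin_germ, ← TopCat.Presheaf.germ_res_apply (prodF F).presheaf (homOfLE hUW) x hxU w]
    congr 1
    obtain ⟨γ, hγ⟩ := exists_prod_section F U b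
    have huniq : ∀ u v : Γ(prodF F, U), (∀ n, (prj F n).app U u = (prj F n).app U v) → u = v := by
      intro u v huv
      let G : Discrete ℕ ⥤ X.Modules := Discrete.functor fun n : ℕ => F.obj (op n)
      haveI : PreservesLimit G (SheafOfModules.evaluation.{u} X.ringCatSheaf (op U) : X.Modules ⥤ _) :=
        SheafOfModules.evaluationPreservesLimit (R := X.ringCatSheaf) G (op U)
      exact Concrete.isLimit_ext (F := G ⋙ ((SheafOfModules.evaluation.{u} X.ringCatSheaf (op U) : X.Modules ⥤ _) ⋙ forget _))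
        (isLimitOfPreserves _ (limit.isLimit G)) u v fun n => huv n.as
    refine huniq _ _ fun n => ?_
    rw [towerDiffSh_app, hα, hα]
    exact congrFun ha n
  exact IsZero.of_epi_eq_zero (cokernel.π (LimSh.towerDiffSh F)) (cokernel.π_of_epi _)

theorem isML_of_limOne (k : Type u) [Field k] [X.Over (Spec (CommRingCat.of k))]
    [LocallyOfFiniteType (X ↘ Spec (CommRingCat.of k))] [CompactSpace X]
    (hF : ∀ n : ℕ, Coh.IsQCoh (F.obj (op n)))
    (hFc : ∀ n : ℕ, ∀ U : X.affineOpens, ∃ s : Set ((F.obj (op n)).val.obj (op (U : X.Opens))),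
        s.Countable ∧ Submodule.span (X.ringCatSheaf.obj.obj (op (U : X.Opens))) s = ⊤)
    (hC : ∀ U : X.affineOpens, ∃ s : Set ((LimSh.limOneSh F).val.obj (op (U : X.Opens))),
        s.Countable ∧ Submodule.span (X.ringCatSheaf.obj.obj (op (U : X.Opens))) s = ⊤) : IsML F := by
  intro n
  have hK : ∀ U : X.affineOpens, ∃ K : ℕ, ∀ j : ℕ, K ≤ j →
      LinearMap.range (secL (F.map (homOfLE (Nat.le_add_right n j)).op) (U : X.Opens)) =
        LinearMap.range (secL (F.map (homOfLE (Nat.le_add_right n K)).op) (U : X.Opens)) := fun U => by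
    obtain ⟨s₁, hs₁, hsp₁⟩ := hFc n U
    obtain ⟨s₀, hs₀, hsp₀⟩ := hC U
    exact ranges_stabilize k hF U.2 n s₁ hs₁ hsp₁ s₀ hs₀ hsp₀
  choose K hK using hK
  have hcov : (Set.univ : Set X) ⊆ ⋃ U : X.affineOpens, ((U : X.Opens) : Set X) := fun x _ => by
    obtain ⟨U, hU, hx, -⟩ := exists_isAffineOpen_mem_and_subset (x := x) (U := (⊤ : X.Opens)) trivial
    exact Set.mem_iUnion.2 ⟨⟨U, hU⟩, hx⟩
  obtain ⟨t, ht⟩ := isCompact_univ.elim_finite_subcover _ (fun U : X.affineOpens => (U : X.Opens).2) hcov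
  refine ⟨n + t.sup K, Nat.le_add_right n _, fun m' hm' => ?_⟩
  obtain ⟨j, rfl⟩ := Nat.le.dest ((Nat.le_add_right n _).trans hm')
  have hj : t.sup K ≤ j := by omega
  refine le_antisymm (imageSubobject_eq_of_ranges (hF _) _ _ fun x => ?_)
    (imageSubobject_eq_of_ranges (hF _) _ _ fun x => ?_) <;>
  · obtain ⟨U, hU, hx⟩ := Set.mem_iUnion₂.1 (ht (Set.mem_univ x))
    refine ⟨U, U.2, hx, le_of_eq ?_⟩
    rw [hK U j ((Finset.le_sup hU).trans hj), hK U (t.sup K) (Finset.le_sup hU)]

end Groth.Agent.TowerStabLib
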