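import Groth.Agent.TowerStabLib.Algebra

/-! The diagonal step with values in a localized tower, and the diagonal sequence. -/

set_option autoImplicit false
set_option linter.style.haveILetI false

universe u

namespace Groth.Agent.TowerStabLib

variable {k R M : Type u} [Field k] [CommRing R] [Algebra k R] [AddCommGroup M] [Module R M]

section

variable {L : ℕ → Type u} [∀ n, AddCommGroup (L n)] [∀ n, Module R (L n)] [∀ n, Module k (L n)]
  [∀ n, IsScalarTower k R (L n)] {V : Type u} [AddCommGroup V] [Module k V]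
  (q : ∀ n, M →ₗ[R] L n) (a : V →ₗ[k] R) (τ : ∀ n, V →ₗ[k] L n) (p : Ideal R)

/-- The parameter `v` lifts `s` at level `n` on the basic open of `a v`. -/
def BadL (n : ℕ) (s : M) (v : V) : Prop :=
  a v ∉ p ∧ ∃ i : ℕ, a v ^ i • (a v • q n s - τ n v) = 0

variable {q a τ p}

theorem badL_congr {n : ℕ} {s s' : M} (h : q n (s' - s) = 0) {v : V} (hv : BadL q a τ p n s' v) :
    BadL q a τ p n s v := by
  rw [map_sub, sub_eq_zero] at h
  rwa [BadL, h] at hv

theorem badL_mono {n m : ℕ} (T : L m →ₗ[R] L n) (hq : ∀ e, T (q m e) = q n e)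
    (hτ : ∀ v, T (τ m v) = τ n v) {s : M} {v : V} (hv : BadL q a τ p m s v) : BadL q a τ p n s v := by
  obtain ⟨hp, i, hi⟩ := hv
  refine ⟨hp, i, ?_⟩
  have := congrArg T hi
  rwa [map_smul, map_sub, map_smul, hq, hτ, map_zero] at this

variable (q a τ p)

/-- The bilinear forms vanishing on the diagonal of the bad parameters. -/
def badAnnL (n : ℕ) (s : M) : Submodule k (V →ₗ[k] V →ₗ[k] k) where
  carrier := {B | ∀ v : V, BadL q a τ p n s v → B v v = 0}
  add_mem' := fun {b c} hb hc v hv => by simp [hb v hv, hc v hv]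
  zero_mem' := fun v _ => rfl
  smul_mem' := fun c b hb v hv => by simp [hb v hv]

theorem exists_formL (n : ℕ) (y : Ideal R) [hy : y.IsPrime] (s : M) (w : V) (hf : a w ∉ y)
    (hr : a w • q n s - τ n w ∉ sat (⊥ : Submodule R (L n)) y) :
    ∃ B : V →ₗ[k] V →ₗ[k] k, B w w ≠ 0 ∧ ∀ v : V, BadL q a τ p n s v → B v v = 0 := by
  obtain ⟨φ, hφ, hφy⟩ := Submodule.exists_dual_map_eq_bot_of_notMem
    (p := y.restrictScalars k) (x := a w) hf inferInstance
  obtain ⟨ψ, hψ, hψT⟩ := Submodule.exists_dual_map_eq_bot_of_notMem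
    (p := (sat (⊥ : Submodule R (L n)) y).restrictScalars k) (x := a w • q n s - τ n w) hr inferInstance
  let r : V →ₗ[k] L n := ((LinearMap.toSpanSingleton R (L n) (q n s)).restrictScalars k).comp a - τ n
  have hr' : ∀ v : V, r v = a v • q n s - τ n v := fun v => rfl
  refine ⟨(φ ∘ₗ a).smulRight (ψ ∘ₗ r), ?_, fun v hv => ?_⟩
  · show φ (a w) • ψ (r w) ≠ 0
    rw [hr']
    exact smul_ne_zero hφ hψ
  · show φ (a v) • ψ (r v) = 0
    obtain ⟨-, i, hi⟩ := hv
    by_cases h : a v ∈ y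
    · have : φ (a v) = 0 := by
        have h2 : φ (a v) ∈ (y.restrictScalars k).map φ := ⟨_, h, rfl⟩
        rwa [hφy] at h2
      rw [this, zero_smul]
    · have hmem : r v ∈ sat (⊥ : Submodule R (L n)) y :=
        ⟨_, fun hh => h (hy.mem_of_pow_mem i hh), by rw [hr']; exact (Submodule.mem_bot R).2 hi⟩
      have : ψ (r v) = 0 := by
        have h2 : ψ (r v) ∈ ((sat (⊥ : Submodule R (L n)) y).restrictScalars k).map ψ := ⟨_, hmem, rfl⟩
        rwa [hψT] at h2
      rw [this, smul_zero]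

variable [FiniteDimensional k V]

/-- One step: kill every parameter of a finite-dimensional space. -/
theorem exists_extensionL (H : ℕ → Submodule R M) (hH : Antitone H)
    (hker : ∀ n, ∀ e ∈ H n, q n e = 0) (T : ∀ n m, n ≤ m → L m →ₗ[R] L n)
    (hq : ∀ n m (h : n ≤ m) e, T n m h (q m e) = q n e)
    (hτ : ∀ n m (h : n ≤ m) v, T n m h (τ m v) = τ n v)
    (hp : ∀ f : R, f ∉ p → ∀ n, ∃ m, n ≤ m ∧ ∃ δ ∈ H n, ∀ i : ℕ, f ^ i • q m δ ≠ 0)
    (n : ℕ) (s : M) :
    ∃ m, n ≤ m ∧ ∃ s', s' - s ∈ H n ∧ ∀ v : V, ¬ BadL q a τ p m s' v := by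
  suffices ∀ (A : Submodule k (V →ₗ[k] V →ₗ[k] k)) (n : ℕ) (s : M), badAnnL q a τ p n s = A →
      ∃ m, n ≤ m ∧ ∃ s', s' - s ∈ H n ∧ ∀ v : V, ¬ BadL q a τ p m s' v from this _ n s rfl
  intro A
  induction A using WellFoundedGT.induction with
  | ind A ih =>
    intro n s hA
    by_cases hb : ∀ v : V, ¬ BadL q a τ p n s v
    · exact ⟨n, le_rfl, s, by simp, hb⟩
    push Not at hb
    obtain ⟨w, hw⟩ := hb
    obtain ⟨m, hnm, δ, hδ, hδm⟩ := hp _ hw.1 n
    let I : Ideal R := LinearMap.ker (LinearMap.toSpanSingleton R (L m) (q m δ))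
    obtain ⟨y, hy, hIy, hfy⟩ : ∃ y : Ideal R, y.IsPrime ∧ I ≤ y ∧ a w ∉ y := by
      by_contra hcon
      push Not at hcon
      have : a w ∈ I.radical := by
        rw [Ideal.radical_eq_sInf]
        exact Submodule.mem_sInf.2 fun z hz => hcon z hz.2 hz.1
      obtain ⟨i, hi⟩ := this
      exact hδm i hi
    haveI := hy
    have hδy : q m δ ∉ sat (⊥ : Submodule R (L m)) y :=
      fun ⟨c, hc, hce⟩ => hc (hIy ((Submodule.mem_bot R).1 hce))
    obtain ⟨s', hs', hr⟩ : ∃ s', s' - s ∈ H n ∧ a w • q m s' - τ m w ∉ sat (⊥ : Submodule R (L m)) y := by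
      by_cases h : a w • q m s - τ m w ∈ sat (⊥ : Submodule R (L m)) y
      · refine ⟨s + δ, by simpa using hδ, fun h' => hδy ?_⟩
        have hd : a w • q m δ ∈ sat (⊥ : Submodule R (L m)) y := by
          have := (sat (⊥ : Submodule R (L m)) y).sub_mem h' h
          rwa [map_add, smul_add, show a w • q m s + a w • q m δ - τ m w - (a w • q m s - τ m w) =
            a w • q m δ by abel] at this
        obtain ⟨c, hc, hce⟩ := hd
        exact ⟨c * a w, fun hh => (hy.mem_or_mem hh).elim hc hfy, by rwa [mul_smul]⟩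
      · exact ⟨s, by simp, h⟩
    obtain ⟨B, hBw, hB⟩ := exists_formL q a τ p m y s' w hfy hr
    have hmem : ∀ v, BadL q a τ p m s' v → BadL q a τ p n s v := fun v hv =>
      badL_congr (hker n _ hs') (badL_mono (T n m hnm) (hq n m hnm) (hτ n m hnm) hv)
    have hle : A < badAnnL q a τ p m s' := by
      subst hA
      refine lt_of_le_of_ne (fun C hC v hv => hC v (hmem v hv)) fun he => ?_
      exact hBw ((he ▸ (show B ∈ badAnnL q a τ p m s' from hB)) w hw)
    obtain ⟨m', hm', s'', hs'', h⟩ := ih _ hle m s' rfl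
    exact ⟨m', hnm.trans hm', s'', by simpa using (H n).add_mem (hH hnm hs'') hs', h⟩

end

/-- A diagonal sequence through countably many conditions. -/
theorem exists_seq (H : ℕ → Submodule R M) (hH : Antitone H) (P : ℕ → ℕ → M → Prop)
    (hP : ∀ N m s s', s' - s ∈ H m → P N m s → P N m s')
    (step : ∀ N n s, ∃ m, n ≤ m ∧ ∃ s', s' - s ∈ H n ∧ P N m s') :
    ∃ s : ℕ → M, (∀ n, s (n + 1) - s n ∈ H n) ∧ ∀ N, ∃ m, P N m (s m) := by
  choose m hm s' hs' hPs using step
  let q : ℕ → ℕ × M := fun N => Nat.rec (0, 0) (fun j r => (max (j + 1) (m j r.1 r.2), s' j r.1 r.2)) N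
  have hle : ∀ N, (q N).1 ≤ (q (N + 1)).1 := fun N => (hm N _ _).trans (le_max_right _ _)
  have hid : ∀ N, N ≤ (q N).1 := fun N => by
    cases N with
    | zero => exact Nat.zero_le _
    | succ N => exact le_max_left _ _
  have hmono : Monotone fun N => (q N).1 := monotone_nat_of_le_succ hle
  have hco : ∀ a b, a ≤ b → (q b).2 - (q a).2 ∈ H (q a).1 := fun a b h => by
    induction h with
    | refl => simp
    | @step b h ih =>
      have := (H (q a).1).add_mem ih (hH (hmono h) (hs' b (q b).1 (q b).2))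
      rwa [add_comm, sub_add_sub_cancel] at this
  refine ⟨fun n => (q n).2, fun n => hH (hid n) (hco n (n + 1) (Nat.le_succ n)),
    fun N => ⟨m N (q N).1 (q N).2, hP _ _ _ _ ?_ (hPs N (q N).1 (q N).2)⟩⟩
  rcases le_total (m N (q N).1 (q N).2) (N + 1) with h | h
  · have h1 := hH (hid (m N (q N).1 (q N).2)) (hco _ (N + 1) h)
    rw [← neg_sub]
    exact (H _).neg_mem h1
  · exact hH (le_max_right (N + 1) _) (hco (N + 1) _ h)

/-- A prime at which a chain that does not stabilize keeps decreasing. -/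
theorem exists_prime_of_not_stable (H : ℕ → Submodule R M) (hH : Antitone H)
    (h : ¬ ∃ N, ∀ n, N ≤ n → H n = H N) :
    ∃ p : Ideal R, p.IsPrime ∧ ∀ f : R, f ∉ p → ∀ n, ∃ m, n ≤ m ∧ ∃ δ ∈ H n, ∀ i : ℕ, f ^ i • δ ∉ H m := by
  classical
  by_contra hcon
  push Not at hcon
  let T : Set R := {f | ∃ n, ∀ m, n ≤ m → ∀ δ ∈ H n, ∃ i : ℕ, f ^ i • δ ∈ H m}
  have hT : Ideal.span T = ⊤ := by
    by_contra hne
    obtain ⟨P, hP, hle⟩ := Ideal.exists_le_maximal _ hne
    obtain ⟨f, hf, hn⟩ := hcon P hP.isPrime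
    exact hf (hle (Ideal.subset_span hn))
  obtain ⟨t, htT, ht⟩ := Submodule.mem_span_finite_of_mem_span ((Ideal.eq_top_iff_one _).1 hT)
  have htop : Ideal.span (t : Set R) = ⊤ := (Ideal.eq_top_iff_one _).2 ht
  choose n hn using fun f : t => htT f.2
  refine h ⟨t.attach.sup n, fun m hm => le_antisymm (hH hm) fun δ hδ => ?_⟩
  let I : Ideal R := (H m).comap (LinearMap.toSpanSingleton R M δ)
  have hI : I.radical = ⊤ := by
    refine top_le_iff.1 (htop ▸ Ideal.span_le.2 fun f hf => ?_)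
    obtain ⟨i, hi⟩ := hn ⟨f, hf⟩ m ((Finset.le_sup (Finset.mem_attach t ⟨f, hf⟩)).trans hm) δ
      (hH (Finset.le_sup (Finset.mem_attach t ⟨f, hf⟩)) hδ)
    exact ⟨i, hi⟩
  simpa using (show (1 : R) • δ ∈ H m from (Ideal.eq_top_iff_one I).1 (Ideal.radical_eq_top.1 hI))

/-- An algebra of finite type over a field is countably spanned. -/
theorem exists_countable_span_algebra (hR : Algebra.FiniteType k R) :
    ∃ b : Set R, b.Countable ∧ Submodule.span k b = ⊤ := by
  obtain ⟨n, φ, hφ⟩ := Algebra.FiniteType.iff_quotient_mvPolynomial''.1 hR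
  refine ⟨φ.toLinearMap '' Set.range (MvPolynomial.basisMonomials (Fin n) k),
    (Set.countable_range _).image _, ?_⟩
  rw [Submodule.span_image, (MvPolynomial.basisMonomials (Fin n) k).span_eq, Submodule.map_top,
    LinearMap.range_eq_top.2 hφ]

/-- A countably spanned space is the union of finite-dimensional subspaces. -/
theorem exists_filtration {W : Type u} [AddCommGroup W] [Module k W] (S : Set W) (hS : S.Countable)
    (hspan : Submodule.span k S = ⊤) :
    ∃ V : ℕ → Submodule k W, Monotone V ∧ (∀ N, FiniteDimensional k (V N)) ∧ ∀ w, ∃ N, w ∈ V N := by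
  obtain ⟨e, he⟩ : ∃ e : ℕ → W, S ⊆ Set.range e := by
    rcases S.eq_empty_or_nonempty with h | h
    · exact ⟨fun _ => 0, by simp [h]⟩
    · obtain ⟨e, rfl⟩ := hS.exists_eq_range h
      exact ⟨e, le_rfl⟩
  let V : ℕ → Submodule k W := fun N => Submodule.span k (e '' Set.Iio N)
  have hdir : Monotone V := fun a b h => Submodule.span_mono (Set.image_mono (Set.Iio_subset_Iio h))
  refine ⟨V, hdir, fun N => FiniteDimensional.span_of_finite k ((Set.finite_Iio N).image e), fun w => ?_⟩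
  have hle : (⊤ : Submodule k W) ≤ ⨆ N, V N := by
    rw [← hspan]
    refine Submodule.span_le.2 fun x hx => ?_
    obtain ⟨j, rfl⟩ := he hx
    exact le_iSup V (j + 1) (Submodule.subset_span ⟨j, Nat.lt_succ_self j, rfl⟩)
  exact (Submodule.mem_iSup_of_directed V hdir.directed_le).1 (hle Submodule.mem_top)

end Groth.Agent.TowerStabLib
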