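import Groth.Agent.TowerStabLib.Sheaf
import Groth.Agent.TowerStabLib.Algebra2
import Groth.Agent.QCohLib.Exact

/-! A tower whose first derived limit has countably generated sections satisfies Mittag-Leffler. -/

set_option autoImplicit false
set_option linter.style.haveILetI false
set_option backward.isDefEq.respectTransparency false

universe u

open CategoryTheory CategoryTheory.Limits AlgebraicGeometry TopologicalSpace Opposite

noncomputable section

namespace Groth.Agent.TowerStabLib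

variable {X : Scheme.{u}} (F : ℕᵒᵖ ⥤ X.Modules)

/-- The product of the members of a tower. -/
abbrev prodF : X.Modules := ∏ᶜ fun n : ℕ => F.obj (op n)

/-- The projections of the product. -/
abbrev prj (n : ℕ) : prodF F ⟶ F.obj (op n) := Pi.π (fun n : ℕ => F.obj (op n)) n

theorem towerDiffSh_app (j : ℕ) (W : X.Opens) (y : Γ(prodF F, W)) :
    (prj F j).app W ((LimSh.towerDiffSh F).app W y) =
      (prj F j).app W y - (F.map (homOfLE (Nat.le_succ j)).op).app W ((prj F (j + 1)).app W y) := by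
  have h : LimSh.towerDiffSh F ≫ prj F j =
      prj F j - prj F (j + 1) ≫ F.map (homOfLE (Nat.le_succ j)).op := limit.lift_π _ _
  rw [← ConcreteCategory.comp_apply, ← Scheme.Modules.Hom.comp_app, h]
  rfl

theorem exists_prod_section (U : X.Opens) (b : ∀ j : ℕ, Γ(F.obj (op j), U)) :
    ∃ β : Γ(prodF F, U), ∀ j, (prj F j).app U β = b j := by
  let G : Discrete ℕ ⥤ X.Modules := Discrete.functor fun n : ℕ => F.obj (op n)
  haveI : PreservesLimit G (SheafOfModules.evaluation.{u} X.ringCatSheaf (op U) : X.Modules ⥤ _) :=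
    SheafOfModules.evaluationPreservesLimit (R := X.ringCatSheaf) G (op U)
  let E : X.Modules ⥤ Type u := (SheafOfModules.evaluation.{u} X.ringCatSheaf (op U) : X.Modules ⥤ _) ⋙ forget _
  have hl := isLimitOfPreserves E (limit.isLimit G)
  let T : ∀ n : Discrete ℕ, (G ⋙ E).obj n := fun n => b n.as
  have hT : T ∈ (G ⋙ E).sections := fun {a c} h => by
    obtain ⟨a⟩ := a; obtain ⟨c⟩ := c
    obtain rfl : a = c := Discrete.eq_of_hom h
    rw [Subsingleton.elim h (𝟙 _), (G ⋙ E).map_id]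
    rfl
  obtain ⟨β, hβ, -⟩ := (Types.isLimit_iff _).1 ⟨hl⟩ T hT
  exact ⟨β, fun j => hβ ⟨j⟩⟩

/-- A section killed in the cokernel is locally in the image. -/
theorem exists_local_preimage {A B : X.Modules} (d : A ⟶ B) (W : X.Opens) (x : X) (hx : x ∈ W)
    (z : Γ(B, W)) (hz : (cokernel.π d).app W z = 0) :
    ∃ (W' : X.Opens) (i : W' ≤ W), x ∈ W' ∧ ∃ y : Γ(A, W'), d.app W' y = B.presheaf.map (homOfLE i).op z := by
  obtain ⟨w, hw⟩ := QCohLib.kernel_app_exact (cokernel.π d) W z hz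
  obtain ⟨v, hv⟩ := (PullbackMod.epi_iff_stalk (Abelian.factorThruImage d)).1 inferInstance x
    ((kernel (cokernel.π d)).presheaf.germ W x hx w)
  obtain ⟨V, hxV, y, rfl⟩ := TopCat.Presheaf.exists_germ_eq A.presheaf v
  rw [PullbackMod.stalkLin_germ] at hv
  obtain ⟨W', hxW', iV, iW, he⟩ := TopCat.Presheaf.germ_eq (kernel (cokernel.π d)).presheaf x hxV hx _ _ hv
  refine ⟨W', iW.le, hxW', A.presheaf.map iV.op y, ?_⟩
  have e1 := congrArg ((kernel.ι (cokernel.π d)).app W') he
  rw [show iV = homOfLE iV.le from Subsingleton.elim _ _,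
    show iW = homOfLE iW.le from Subsingleton.elim _ _, QCohLib.app_res, QCohLib.app_res, hw] at e1
  rw [show iV = homOfLE iV.le from Subsingleton.elim _ _, QCohLib.app_res, ← e1]
  congr 1
  rw [← ConcreteCategory.comp_apply, ← Scheme.Modules.Hom.comp_app]
  exact congrArg (fun φ => (Scheme.Modules.Hom.app φ V) y) (Abelian.image.fac d).symm

theorem exists_lift_nhd {U : X.Opens} (hU : IsAffineOpen U) {A B : X.Modules} (θ : A ⟶ B) [Epi θ] (x : X)
    (hx : x ∈ U) (g : Γ(B, U)) :
    ∃ h : Γ(X, U), x ∈ X.basicOpen h ∧ ∃ t : Γ(A, X.basicOpen h),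
      θ.app _ t = B.presheaf.map (homOfLE (X.basicOpen_le h)).op g := by
  obtain ⟨v, hv⟩ := (PullbackMod.epi_iff_stalk θ).1 inferInstance x (B.presheaf.germ U x hx g)
  obtain ⟨V, hxV, y, rfl⟩ := TopCat.Presheaf.exists_germ_eq A.presheaf v
  rw [PullbackMod.stalkLin_germ] at hv
  obtain ⟨W', hxW', iV, iU, he⟩ := TopCat.Presheaf.germ_eq B.presheaf x hxV hx _ _ hv
  obtain ⟨h, hle, hxh⟩ := hU.exists_basicOpen_le ⟨x, hxW'⟩ hx
  refine ⟨h, hxh, A.presheaf.map (homOfLE (hle.trans iV.le)).op y, ?_⟩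
  rw [QCohLib.app_res,
    show (homOfLE (hle.trans iV.le)).op = iV.op ≫ (homOfLE hle).op from Subsingleton.elim _ _,
    show (homOfLE (X.basicOpen_le h)).op = iU.op ≫ (homOfLE hle).op from Subsingleton.elim _ _,
    Functor.map_comp, Functor.map_comp, ConcreteCategory.comp_apply, ConcreteCategory.comp_apply, he]

theorem res_res {N : X.Modules} {U V W : X.Opens} (h : V ≤ U) (h' : W ≤ V) (z : Γ(N, U)) :
    N.presheaf.map (homOfLE h').op (N.presheaf.map (homOfLE h).op z) = N.presheaf.map (homOfLE (h'.trans h)).op z := by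
  rw [← ConcreteCategory.comp_apply, ← Functor.map_comp]
  rfl

theorem map_map_app {a b c : ℕ} (h : a ≤ b) (h' : b ≤ c) (W : X.Opens) (z : Γ(F.obj (op c), W)) :
    (F.map (homOfLE h).op).app W ((F.map (homOfLE h').op).app W z) = (F.map (homOfLE (h.trans h')).op).app W z := by
  rw [← ConcreteCategory.comp_apply, ← Scheme.Modules.Hom.comp_app, ← F.map_comp]
  rfl

variable {F}

set_option maxHeartbeats 1000000 in
theorem ranges_stabilize (k : Type u) [Field k] [X.Over (Spec (CommRingCat.of k))]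
    [LocallyOfFiniteType (X ↘ Spec (CommRingCat.of k))]
    (hF : ∀ n : ℕ, Coh.IsQCoh (F.obj (op n))) {U : X.Opens} (hU : IsAffineOpen U) (n₀ : ℕ)
    (s₁ : Set Γ(F.obj (op n₀), U)) (hs₁ : s₁.Countable) (hspan₁ : Submodule.span Γ(X, U) s₁ = ⊤)
    (s₀ : Set Γ(LimSh.limOneSh F, U)) (hs₀ : s₀.Countable) (hspan₀ : Submodule.span Γ(X, U) s₀ = ⊤) :
    ∃ K : ℕ, ∀ j : ℕ, K ≤ j →
      LinearMap.range (secL (F.map (homOfLE (Nat.le_add_right n₀ j)).op) U) =
        LinearMap.range (secL (F.map (homOfLE (Nat.le_add_right n₀ K)).op) U) := by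
  let R := Γ(X, U)
  let A := F.obj (op n₀)
  let pr : ∀ j : ℕ, F.obj (op (n₀ + j)) ⟶ A := fun j => F.map (homOfLE (Nat.le_add_right n₀ j)).op
  let H : ℕ → Submodule Γ(X, U) Γ(A, U) := fun j => LinearMap.range (secL (pr j) U)
  have hpr : ∀ {i j : ℕ}, i ≤ j → ∀ (W : X.Opens) (z : Γ(F.obj (op (n₀ + j)), W)),
      ∃ z', (pr i).app W z' = (pr j).app W z := fun {i j} h W z =>
    ⟨(F.map (homOfLE (Nat.add_le_add_left h n₀)).op).app W z, map_map_app F _ _ W z⟩
  have hH : Antitone H := fun i j h z hz => by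
    obtain ⟨w, rfl⟩ := hz
    exact hpr h U w
  haveI hF' : ∀ n : ℕ, Coh.IsQCoh (F.obj (op n)) := hF
  haveI hA : Coh.IsQCoh A := hF n₀
  by_contra hns
  obtain ⟨p, hp, hpb⟩ := exists_prime_of_not_stable H hH hns
  let α : k →+* Γ(X, U) :=
    ((X ↘ Spec (CommRingCat.of k)).appLE ⊤ U (by simp)).hom.comp
      (Scheme.ΓSpecIso (CommRingCat.of k)).inv.hom
  have hα : α.FiniteType :=
    ((X ↘ Spec (CommRingCat.of k)).finiteType_appLE (isAffineOpen_top _) hU (by simp)).comp
      (RingHom.FiniteType.of_surjective _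
        (ConcreteCategory.bijective_of_isIso (Scheme.ΓSpecIso (CommRingCat.of k)).inv).2)
  letI : Algebra k Γ(X, U) := α.toAlgebra
  letI : Module k Γ(A, U) := Module.compHom _ α
  haveI : IsScalarTower k Γ(X, U) Γ(A, U) := IsScalarTower.of_algebraMap_smul fun _ _ => rfl
  obtain ⟨S₁, hS₁, hS₁s⟩ := exists_countable_span (k := k) (M := Γ(A, U)) hα s₁ hs₁ hspan₁
  obtain ⟨V1, hV1m, hV1f, hV1⟩ := exists_filtration S₁ hS₁ hS₁s
  obtain ⟨b0, hb0, hb0s⟩ := exists_countable_span_algebra (k := k) (R := Γ(X, U)) hα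
  obtain ⟨V0, hV0m, hV0f, hV0⟩ := exists_filtration b0 hb0 hb0s
  obtain ⟨e, he⟩ : ∃ e : ℕ → Γ(LimSh.limOneSh F, U), Submodule.span Γ(X, U) (Set.range e) = ⊤ := by
    obtain ⟨e, he⟩ := (hs₀.insert 0).exists_eq_range ⟨0, Set.mem_insert _ _⟩
    exact ⟨e, by rw [← he, Submodule.span_insert_zero, hspan₀]⟩
  let x : X := hU.fromSpec ⟨p, hp⟩
  have hxU : x ∈ U := by
    have : x ∈ Set.range hU.fromSpec := ⟨_, rfl⟩
    rwa [hU.range_fromSpec] at this
  have hmem : ∀ f : Γ(X, U), x ∈ X.basicOpen f ↔ f ∉ p := fun f => by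
    have h1 : x ∈ X.basicOpen f ↔ (⟨p, hp⟩ : PrimeSpectrum Γ(X, U)) ∈ hU.fromSpec ⁻¹ᵁ X.basicOpen f := Iff.rfl
    rw [h1, hU.fromSpec_preimage_basicOpen]
    rfl
  let θ : prodF F ⟶ LimSh.limOneSh F := cokernel.π (LimSh.towerDiffSh F)
  haveI : Epi θ := inferInstanceAs (Epi (cokernel.π (LimSh.towerDiffSh F)))
  choose hh hxh t ht using fun l => exists_lift_nhd hU θ x hxU (e l)
  -- the step for a given stage
  let Pr : ℕ → ℕ → Γ(A, U) → Prop := fun N m s => ∀ (f : Γ(X, U)) (a : Γ(A, U)) (c : ℕ → Γ(X, U)),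
    (f, a) ∈ V1 N → (∀ l < N, c l ∈ V0 N) → f ∉ p → ∀ (W : X.Opens) (hWh : ∀ l < N, W ≤ X.basicOpen (hh l))
      (hWU : W ≤ U), X.basicOpen f ⊓ X.basicOpen (∏ l : Fin N, hh l) ≤ W →
      ∀ (z : Γ(F.obj (op (n₀ + m)), W)),
        (pr m).app W z ≠ X.presheaf.map (homOfLE hWU).op f • A.presheaf.map (homOfLE hWU).op s -
          (A.presheaf.map (homOfLE hWU).op a + ∑ l : Fin N, X.presheaf.map (homOfLE hWU).op (c l) •
            ∑ i ∈ Finset.range m, (pr i).app W ((prj F (n₀ + i)).app W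
              ((prodF F).presheaf.map (homOfLE (hWh l l.2)).op (t l))))
  have hPr : ∀ N m s s', s' - s ∈ H m → Pr N m s → Pr N m s' := by
    intro N m s s' hs' hP f a c hfa hc hf W hWh hWU hfW z hz
    obtain ⟨w, hw⟩ := hs'
    refine hP f a c hfa hc hf W hWh hWU hfW
      (z - X.presheaf.map (homOfLE hWU).op f • (F.obj (op (n₀ + m))).presheaf.map (homOfLE hWU).op w) ?_
    rw [map_sub, Scheme.Modules.Hom.app_smul, QCohLib.app_res, hz,
      show (pr m).app U w = s' - s from hw, map_sub, smul_sub]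
    abel
  have step : ∀ N n s, ∃ m, n ≤ m ∧ ∃ s', s' - s ∈ H n ∧ Pr N m s' := by
    intro N n s
    let h : Γ(X, U) := ∏ l : Fin N, hh l
    have hhp : h ∉ p := fun hcon => by
      obtain ⟨l, -, hl⟩ := (hp.prod_mem_iff).1 hcon
      exact (hmem _).1 (hxh l) hl
    let D : X.Opens := X.basicOpen h
    have hD : D ≤ U := X.basicOpen_le h
    have hDl : ∀ l : Fin N, D ≤ X.basicOpen (hh l) := fun l => by
      obtain ⟨d, hd⟩ := Finset.dvd_prod_of_mem (fun l : Fin N => hh l) (Finset.mem_univ l)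
      show X.basicOpen h ≤ _
      rw [show h = hh l * d from hd, Scheme.basicOpen_mul]
      exact inf_le_left
    let ρ : Γ(X, U) →+* Γ(X, D) := (X.presheaf.map (homOfLE hD).op).hom
    letI mR : ∀ N' : X.Modules, Module Γ(X, U) Γ(N', D) := fun N' => Module.compHom _ ρ
    let pD : ∀ j, Γ(F.obj (op (n₀ + j)), D) →ₗ[Γ(X, U)] Γ(A, D) := fun j =>
      { toFun := (pr j).app D
        map_add' := map_add _
        map_smul' := fun r z => Scheme.Modules.Hom.app_smul (pr j) (ρ r) z }
    let rA : Γ(A, U) →ₗ[Γ(X, U)] Γ(A, D) :=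
      { toFun := A.presheaf.map (homOfLE hD).op
        map_add' := map_add _
        map_smul' := fun r z => Scheme.Modules.map_smul A (homOfLE hD) r z }
    let L : ℕ → Type u := fun j => Γ(A, D) ⧸ LinearMap.range (pD j)
    letI : ∀ j, Module k (L j) := fun j => Module.compHom _ α
    haveI : ∀ j, IsScalarTower k Γ(X, U) (L j) := fun j => IsScalarTower.of_algebraMap_smul fun _ _ => rfl
    let q : ∀ j, Γ(A, U) →ₗ[Γ(X, U)] L j := fun j => (LinearMap.range (pD j)).mkQ ∘ₗ rA
    let S : Fin N → ℕ → Γ(A, D) := fun l j => ∑ i ∈ Finset.range j,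
      (pr i).app D ((prj F (n₀ + i)).app D ((prodF F).presheaf.map (homOfLE (hDl l)).op (t l)))
    let V : Type u := ↥(V1 N) × (Fin N → ↥(V0 N))
    haveI := hV1f N
    haveI := hV0f N
    let a : V →ₗ[k] Γ(X, U) :=
      LinearMap.fst k _ _ ∘ₗ (V1 N).subtype ∘ₗ LinearMap.fst k _ _
    let τ : ∀ j, V →ₗ[k] L j := fun j =>
      (q j).restrictScalars k ∘ₗ LinearMap.snd k _ _ ∘ₗ (V1 N).subtype ∘ₗ LinearMap.fst k _ _ +
        ∑ l : Fin N, (LinearMap.toSpanSingleton Γ(X, U) (L j) (Submodule.Quotient.mk (S l j))).restrictScalars k ∘ₗ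
          (V0 N).subtype ∘ₗ LinearMap.proj l ∘ₗ LinearMap.snd k _ _
    have hτv : ∀ j (v : V), τ j v = Submodule.Quotient.mk
        (rA (v.1 : Γ(X, U) × Γ(A, U)).2 + ∑ l : Fin N, (v.2 l : Γ(X, U)) • S l j) := fun j v => by
      rw [← Submodule.mkQ_apply, map_add, map_sum]
      simp only [τ, LinearMap.add_apply, LinearMap.sum_apply, LinearMap.comp_apply, map_smul]
      rfl
    have hrange : ∀ i j, i ≤ j → LinearMap.range (pD j) ≤ LinearMap.range (pD i) := fun i j hij z hz => by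
      obtain ⟨w, rfl⟩ := hz
      exact hpr hij D w
    let T : ∀ i j, i ≤ j → L j →ₗ[Γ(X, U)] L i := fun i j hij =>
      Submodule.mapQ _ _ LinearMap.id (by rw [Submodule.comap_id]; exact hrange i j hij)
    have hTq : ∀ i j (hij : i ≤ j) z, T i j hij (q j z) = q i z := fun i j hij z => rfl
    have hTS : ∀ i j, i ≤ j → ∀ l, S l j - S l i ∈ LinearMap.range (pD i) := fun i j hij l => by
      induction hij with
      | refl => simp
      | @step j hij ih =>
        rw [show S l (j + 1) = S l j + _ from Finset.sum_range_succ _ _, add_sub_right_comm]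
        refine Submodule.add_mem _ ih ?_
        obtain ⟨w, hw⟩ := hpr hij D
          ((prj F (n₀ + j)).app D ((prodF F).presheaf.map (homOfLE (hDl l)).op (t l)))
        exact ⟨w, hw⟩
    have hTτ : ∀ i j (hij : i ≤ j) v, T i j hij (τ j v) = τ i v := fun i j hij v => by
      rw [hτv, hτv]
      refine (Submodule.Quotient.eq _).2 ?_
      simp only [LinearMap.id_apply]
      rw [add_sub_add_left_eq_sub, ← Finset.sum_sub_distrib]
      refine Submodule.sum_mem _ fun l _ => ?_
      rw [← smul_sub]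
      exact Submodule.smul_mem _ _ (hTS i j hij l)
    have hker : ∀ j, ∀ z ∈ H j, q j z = 0 := fun j z hz => by
      obtain ⟨w, rfl⟩ := hz
      refine (Submodule.Quotient.mk_eq_zero _).2
        ⟨(F.obj (op (n₀ + j))).presheaf.map (homOfLE hD).op w, ?_⟩
      exact QCohLib.app_res (pr j) hD w
    have hp' : ∀ f : Γ(X, U), f ∉ p → ∀ j, ∃ m, j ≤ m ∧ ∃ δ ∈ H j, ∀ i : ℕ, f ^ i • q m δ ≠ 0 := by
      intro f hf j
      obtain ⟨m, hm, δ, hδ, hδm⟩ := hpb (f * h) (fun hc => (hp.mem_or_mem hc).elim hf hhp) j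
      refine ⟨m, hm, δ, hδ, fun i hi => ?_⟩
      rw [← map_smul] at hi
      obtain ⟨w, hw⟩ := (Submodule.Quotient.mk_eq_zero _).1 hi
      obtain ⟨d, w', hw'⟩ := (QCohLib.locAt (F.obj (op (n₀ + m))) hU).extend h w
      have hz : A.presheaf.map (homOfLE hD).op (h ^ d • f ^ i • δ - (pr m).app U w') = 0 := by
        have e1 : (pr m).app D ((F.obj (op (n₀ + m))).presheaf.map (homOfLE hD).op w') = _ :=
          congrArg ((pr m).app D) hw'
        rw [QCohLib.app_res, QCohLib.app_sc] at e1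
        rw [map_sub, e1, Scheme.Modules.map_smul, sub_eq_zero]
        exact congrArg (fun z => X.presheaf.map (homOfLE hD).op (h ^ d) • z) hw.symm
      obtain ⟨d', hd'⟩ := (QCohLib.locAt A hU).kill h _ hz
      refine hδm (d' + d + i) ?_
      have hd'' : h ^ d' • (h ^ d • f ^ i • δ - (pr m).app U w') = 0 := (QCohLib.sc_le_rfl (h ^ d') _).symm.trans hd'
      rw [smul_sub, sub_eq_zero] at hd''
      rw [show (f * h) ^ (d' + d + i) = (f ^ (d' + d) * h ^ i) * (h ^ d' * (h ^ d * f ^ i)) by ring,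
        mul_smul, mul_smul, mul_smul, mul_smul, hd'', smul_smul]
      refine Submodule.smul_mem _ _ ?_
      exact Submodule.smul_mem _ _ ⟨w', rfl⟩
    obtain ⟨m, hm, s', hs', hbad⟩ := exists_extensionL q a τ p H hH hker T hTq hTτ hp' n s
    refine ⟨m, hm, s', hs', fun f a' c hfa hc hf W hWh hWU hfW z hz => ?_⟩
    refine hbad (⟨(f, a'), hfa⟩, fun l => ⟨c l, hc l l.2⟩) ⟨hf, ?_⟩
    let f' : Γ(X, D) := ρ f
    have hDW : X.basicOpen f' ≤ W := by
      refine le_trans ?_ hfW
      show X.basicOpen (X.presheaf.map (homOfLE hD).op f) ≤ _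
      rw [Scheme.basicOpen_res, inf_comm]
    obtain ⟨d, w', hw'⟩ := (QCohLib.locAt (F.obj (op (n₀ + m))) (hU.basicOpen h)).extend f'
      ((F.obj (op (n₀ + m))).presheaf.map (homOfLE hDW).op z)
    let Y : Γ(A, D) := f • rA s' - (rA a' + ∑ l : Fin N, c l • S l m)
    have hY : A.presheaf.map (homOfLE (X.basicOpen_le f')).op (f' ^ d • Y - (pr m).app D w') = 0 := by
      have e1 : (pr m).app _ ((F.obj (op (n₀ + m))).presheaf.map (homOfLE (X.basicOpen_le f')).op w') = _ :=
        congrArg ((pr m).app (X.basicOpen f')) hw'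
      rw [QCohLib.app_res, QCohLib.app_sc, QCohLib.app_res, hz] at e1
      rw [map_sub, e1, Scheme.Modules.map_smul, sub_eq_zero]
      refine congrArg (fun z => X.presheaf.map (homOfLE (X.basicOpen_le f')).op (f' ^ d) • z) ?_
      have key : ∀ (r : Γ(X, U)) (y : Γ(A, D)), A.presheaf.map (homOfLE (X.basicOpen_le f')).op (r • y) =
          X.presheaf.map (homOfLE ((X.basicOpen_le f').trans hD)).op r •
            A.presheaf.map (homOfLE (X.basicOpen_le f')).op y := fun r y => by
        refine (Scheme.Modules.map_smul A (homOfLE (X.basicOpen_le f')) (ρ r) y).trans ?_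
        congr 1
        show (X.presheaf.map (homOfLE hD).op ≫ X.presheaf.map _) r = _
        rw [← Functor.map_comp]; rfl
      have keyW : ∀ (r : Γ(X, U)), X.presheaf.map (homOfLE hDW).op (X.presheaf.map (homOfLE hWU).op r) =
          X.presheaf.map (homOfLE ((X.basicOpen_le f').trans hD)).op r := fun r => by
        show (X.presheaf.map (homOfLE hWU).op ≫ X.presheaf.map _) r = _
        rw [← Functor.map_comp]; rfl
      have keyA : ∀ y : Γ(A, U), A.presheaf.map (homOfLE (X.basicOpen_le f')).op (rA y) =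
          A.presheaf.map (homOfLE hDW).op (A.presheaf.map (homOfLE hWU).op y) := fun y =>
        (res_res hD _ y).trans (res_res hWU _ y).symm
      simp only [Y, map_sub, map_add, map_sum, key, keyA, Scheme.Modules.map_smul, keyW, S]
      congr 3
      refine funext fun l => congrArg _ (Finset.sum_congr rfl fun i _ => ?_)
      rw [← QCohLib.app_res, ← QCohLib.app_res, ← QCohLib.app_res, ← QCohLib.app_res, res_res, res_res]
    obtain ⟨d', hd'⟩ := (QCohLib.locAt A (hU.basicOpen h)).kill f' _ hY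
    refine ⟨d' + d, ?_⟩
    rw [hτv, show q m s' = Submodule.Quotient.mk (rA s') from rfl]
    rw [show a (⟨(f, a'), hfa⟩, fun l => ⟨c l, hc l l.2⟩) = f from rfl,
      ← Submodule.Quotient.mk_smul, ← Submodule.Quotient.mk_sub, ← Submodule.Quotient.mk_smul,
      Submodule.Quotient.mk_eq_zero]
    have hd'' : f' ^ d' • (f' ^ d • Y - (pr m).app D w') = 0 := (QCohLib.sc_le_rfl (f' ^ d') _).symm.trans hd'
    rw [smul_sub, sub_eq_zero, ← mul_smul, ← pow_add, ← Scheme.Modules.Hom.app_smul] at hd''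
    refine ⟨f' ^ d' • w', hd''.symm.trans ?_⟩
    show ρ f ^ (d' + d) • Y = ρ (f ^ (d' + d)) • Y
    rw [map_pow]
  obtain ⟨s, hs, hsP⟩ := exists_seq H hH Pr hPr step
  -- the sections
  choose b hb using fun n => (show ∃ b, (pr n).app U b = s (n + 1) - s n from hs n)
  obtain ⟨β, hβ⟩ := exists_prod_section F U fun j =>
    (F.map (homOfLE (show j ≤ n₀ + (j - n₀) by omega)).op).app U (b (j - n₀))
  have hβp : ∀ i, (pr i).app U ((prj F (n₀ + i)).app U β) = s (i + 1) - s i := fun i => by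
    rw [hβ, map_map_app]
    have key : ∀ j (hj : j = i), (F.map (homOfLE (Nat.le_add_right n₀ j)).op).app U (b j) = s (i + 1) - s i := by
      rintro j rfl
      exact hb j
    exact key _ (by omega)
  obtain ⟨c, hc⟩ := Finsupp.mem_span_range_iff_exists_finsupp.1
    (show θ.app U β ∈ Submodule.span Γ(X, U) (Set.range e) by rw [he]; trivial)
  obtain ⟨N₁, hN₁⟩ : ∃ N₁, ∀ l ∈ c.support, l < N₁ := ⟨c.support.sup id + 1, fun l hl =>
    Nat.lt_succ_of_le (Finset.le_sup (f := id) hl)⟩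
  have hc' : ∑ l : Fin N₁, c l • e l = θ.app U β := by
    rw [← hc, Fin.sum_univ_eq_sum_range (fun l => c l • e l) N₁]
    exact (Finsupp.sum_of_support_subset c (fun l hl => Finset.mem_range.2 (hN₁ l hl))
      (fun l r => r • e l) (fun l _ => zero_smul _ _)).symm
  let h : Γ(X, U) := ∏ l : Fin N₁, hh l
  let D : X.Opens := X.basicOpen h
  have hD : D ≤ U := X.basicOpen_le h
  have hxD : x ∈ D := (hmem h).2 fun hcon => by
    obtain ⟨l, -, hl⟩ := (hp.prod_mem_iff).1 hcon
    exact (hmem _).1 (hxh l) hl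
  have hDl : ∀ l : Fin N₁, D ≤ X.basicOpen (hh l) := fun l => by
    obtain ⟨d, hd⟩ := Finset.dvd_prod_of_mem (fun l : Fin N₁ => hh l) (Finset.mem_univ l)
    show X.basicOpen h ≤ _
    rw [show h = hh l * d from hd, Scheme.basicOpen_mul]
    exact inf_le_left
  let ζ : Γ(prodF F, D) := (prodF F).presheaf.map (homOfLE hD).op β -
    ∑ l : Fin N₁, X.presheaf.map (homOfLE hD).op (c l) • (prodF F).presheaf.map (homOfLE (hDl l)).op (t l)
  have hζ : θ.app D ζ = 0 := by
    rw [map_sub, map_sum, QCohLib.app_res, ← hc', map_sum, sub_eq_zero]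
    refine Finset.sum_congr rfl fun l _ => ?_
    rw [Scheme.Modules.Hom.app_smul, QCohLib.app_res, ht, res_res, Scheme.Modules.map_smul]
  obtain ⟨W', hW', hxW', y', hy'⟩ := exists_local_preimage (LimSh.towerDiffSh F) D x hxD ζ hζ
  obtain ⟨g, hgW, hxg⟩ := hU.exists_basicOpen_le ⟨x, hxW'⟩ hxU
  let W : X.Opens := X.basicOpen g
  have hWD : W ≤ D := hgW.trans hW'
  have hWU : W ≤ U := X.basicOpen_le g
  let y : Γ(prodF F, W) := (prodF F).presheaf.map (homOfLE hgW).op y'
  let y₀ : Γ(A, W) := (prj F n₀).app W y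
  let S : Fin N₁ → ℕ → Γ(A, W) := fun l j => ∑ i ∈ Finset.range j,
    (pr i).app W ((prj F (n₀ + i)).app W ((prodF F).presheaf.map (homOfLE (hWD.trans (hDl l))).op (t l)))
  have hy : (LimSh.towerDiffSh F).app W y = (prodF F).presheaf.map (homOfLE hWU).op β -
      ∑ l : Fin N₁, X.presheaf.map (homOfLE hWU).op (c l) •
        (prodF F).presheaf.map (homOfLE (hWD.trans (hDl l))).op (t l) := by
    rw [QCohLib.app_res, hy', res_res]
    simp only [ζ, map_sub, map_sum, Scheme.Modules.map_smul, res_res]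
    congr 2
    refine funext fun l => congrArg (· • _) ?_
    show (X.presheaf.map (homOfLE hD).op ≫ X.presheaf.map _) _ = _
    rw [← Functor.map_comp]; rfl
  have htel : ∀ j, A.presheaf.map (homOfLE hWU).op (s j) - A.presheaf.map (homOfLE hWU).op (s 0) -
      ∑ l : Fin N₁, X.presheaf.map (homOfLE hWU).op (c l) • S l j =
        y₀ - (pr j).app W ((prj F (n₀ + j)).app W y) := by
    intro j
    induction j with
    | zero =>
      have h0 : pr 0 = 𝟙 A := F.map_id _
      rw [show (pr 0).app W ((prj F (n₀ + 0)).app W y) = y₀ by rw [h0]; rfl, sub_self, sub_self,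
        zero_sub, neg_eq_zero]
      exact Finset.sum_eq_zero fun l _ => by simp [S]
    | succ j ih =>
      have hstep : (pr j).app W ((prj F (n₀ + j)).app W ((LimSh.towerDiffSh F).app W y)) =
          (pr j).app W ((prj F (n₀ + j)).app W y) - (pr (j + 1)).app W ((prj F (n₀ + (j + 1))).app W y) := by
        rw [towerDiffSh_app, map_sub, map_map_app]
        rfl
      rw [hy, map_sub, map_sub, map_sum, map_sum, QCohLib.app_res, QCohLib.app_res, hβp, map_sub] at hstep
      simp only [Scheme.Modules.Hom.app_smul] at hstep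
      have hS : ∀ l, S l (j + 1) = S l j + (pr j).app W ((prj F (n₀ + j)).app W
          ((prodF F).presheaf.map (homOfLE (hWD.trans (hDl l))).op (t l))) := fun l => Finset.sum_range_succ _ _
      simp only [hS, smul_add, Finset.sum_add_distrib]
      linear_combination (norm := abel) ih + hstep
  obtain ⟨d, a₀, ha₀⟩ := (QCohLib.locAt A hU).extend g
    (y₀ + A.presheaf.map (homOfLE hWU).op (s 0))
  obtain ⟨N₂, hN₂⟩ := hV1 (g ^ (d + 1), g • a₀)
  choose Nl hNl using fun l : ℕ => hV0 (g ^ (d + 1) * c l)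
  let N : ℕ := max (max N₁ N₂) ((Finset.range N₁).sup Nl)
  obtain ⟨m, hm⟩ := hsP N
  let c' : ℕ → Γ(X, U) := fun l => if l < N₁ then g ^ (d + 1) * c l else 0
  let hN : Γ(X, U) := ∏ l : Fin N, hh l
  let W₂ : X.Opens := W ⊓ X.basicOpen hN
  have hW₂ : ∀ l < N, W₂ ≤ X.basicOpen (hh l) := fun l hl => by
    obtain ⟨q, hq⟩ := Finset.dvd_prod_of_mem (fun l : Fin N => hh l) (Finset.mem_univ ⟨l, hl⟩)
    refine inf_le_right.trans ?_
    rw [show hN = hh l * q from hq, Scheme.basicOpen_mul]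
    exact inf_le_left
  have hW₂W : W₂ ≤ W := inf_le_left
  have hc₀ : ∀ l < N, c' l ∈ V0 N := fun l _ => by
    show (if l < N₁ then g ^ (d + 1) * c l else 0) ∈ V0 N
    split_ifs with hl
    · exact hV0m ((Finset.le_sup (f := Nl) (Finset.mem_range.2 hl)).trans (le_max_right _ _)) (hNl l)
    · exact zero_mem _
  refine hm (g ^ (d + 1)) (g • a₀) c' (hV1m ((le_max_right _ _).trans (le_max_left _ _)) hN₂) hc₀
    (fun hcon => (hmem g).1 hxg (hp.mem_of_pow_mem _ hcon)) W₂ hW₂ (hW₂W.trans hWU)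
    (le_of_eq (by rw [X.basicOpen_pow g (Nat.succ_pos d)]))
    (-(X.presheaf.map (homOfLE (hW₂W.trans hWU)).op (g ^ (d + 1)) •
      (F.obj (op (n₀ + m))).presheaf.map (homOfLE hW₂W).op ((prj F (n₀ + m)).app W y))) ?_
  rw [map_neg, Scheme.Modules.Hom.app_smul, QCohLib.app_res]
  have e0 := congrArg (fun z => A.presheaf.map (homOfLE hW₂W).op z) (htel m)
  simp only [map_sub, map_sum, Scheme.Modules.map_smul, res_res] at e0
  have e1 := congrArg (fun z => A.presheaf.map (homOfLE hW₂W).op z) ha₀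
  simp only [CohBase.sc_apply, Scheme.Modules.map_smul, map_add, res_res] at e1
  have hres : ∀ r : Γ(X, U), X.presheaf.map (homOfLE hW₂W).op (X.presheaf.map (homOfLE hWU).op r) =
      X.presheaf.map (homOfLE (hW₂W.trans hWU)).op r := fun r => by
    show (X.presheaf.map (homOfLE hWU).op ≫ X.presheaf.map _) r = _
    rw [← Functor.map_comp]; rfl
  simp only [hres] at e0 e1
  let G : ℕ → Γ(A, W₂) := fun l => if hl : l < N then ∑ i ∈ Finset.range m, (pr i).app W₂
    ((prj F (n₀ + i)).app W₂ ((prodF F).presheaf.map (homOfLE (hW₂ l hl)).op (t l))) else 0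
  have hsum : ∑ l : Fin N, X.presheaf.map (homOfLE (hW₂W.trans hWU)).op (c' l) •
      ∑ i ∈ Finset.range m, (pr i).app W₂ ((prj F (n₀ + i)).app W₂
        ((prodF F).presheaf.map (homOfLE (hW₂ l l.2)).op (t l))) =
      X.presheaf.map (homOfLE (hW₂W.trans hWU)).op (g ^ (d + 1)) • ∑ l : Fin N₁,
        X.presheaf.map (homOfLE (hW₂W.trans hWU)).op (c l) • A.presheaf.map (homOfLE hW₂W).op (S l m) := by
    have hN₁ : N₁ ≤ N := (le_max_left _ _).trans (le_max_left _ _)
    rw [Finset.smul_sum]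
    trans ∑ l ∈ Finset.range N, X.presheaf.map (homOfLE (hW₂W.trans hWU)).op (c' l) • G l
    · rw [← Fin.sum_univ_eq_sum_range (fun l => X.presheaf.map (homOfLE (hW₂W.trans hWU)).op (c' l) • G l) N]
      refine Finset.sum_congr rfl fun l _ => ?_
      rw [show G l = _ from dif_pos l.2]
    rw [← Finset.sum_subset (Finset.range_subset_range.2 hN₁) fun l _ hl => by
        rw [show c' l = 0 from if_neg (fun h' => hl (Finset.mem_range.2 h')), map_zero, zero_smul],
      ← Fin.sum_univ_eq_sum_range (fun l => X.presheaf.map (homOfLE (hW₂W.trans hWU)).op (c' l) • G l) N₁]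
    refine Finset.sum_congr rfl fun l _ => ?_
    rw [show c' l = g ^ (d + 1) * c l from if_pos l.2, map_mul, mul_smul, show G l = _ from dif_pos (l.2.trans_le hN₁)]
    congr 2
    simp only [S, map_sum]
    refine Finset.sum_congr rfl fun i _ => ?_
    rw [← QCohLib.app_res, ← QCohLib.app_res, res_res]
  rw [hsum, Scheme.Modules.map_smul, ← res_res hWU hW₂W a₀, e1, hres, smul_add, smul_smul, smul_smul,
    ← map_mul, ← pow_succ']
  have e2 := congrArg (fun z => X.presheaf.map (homOfLE (hW₂W.trans hWU)).op (g ^ (d + 1)) • z) e0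
  simp only [smul_sub] at e2
  linear_combination (norm := abel) -e2

end Groth.Agent.TowerStabLib
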